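import Cfsg.Agent.Omega.FOne.NOv.TrAbs
import Mathlib.LinearAlgebra.Dual.Lemmas
import Mathlib.LinearAlgebra.FreeModule.Finite.Basic

/-!
# THEOREM A (helper297 #20655, referee helper270 #21082): the frame and the K-free part

`ρ : Γ → End(M)` faithful, `B` an atom (`|B||C_M(B)| = |M|`, quadratic), `B ≤ L` trivial on `M / X`,
`Y = C_L(X)`, `Φ : Y → X^*` an `L`-equivariant homomorphism with `Φ(u')([m,u]) = Φ(u)([m,u'])`, moved by `B`.

* `Fr.two` : `u ∈ Y` commutes with `B`, or `M = [M,u] + C_M(B)`;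
* `Fr.sep` : in the second case `Φ(u)` is not trivial on `[X, b]`, `1 ≠ b ∈ B`;
* `Fr.Mn Y₁` : `Y₁` is a minimal `L`-invariant subgroup of `Y` moved by `B`.
-/

set_option autoImplicit false
set_option linter.unusedSectionVars false

namespace Cfsg.Agent.Omega.FOne.ThmA

open Subgroup
open Cfsg.Agent.Omega.FOne.Tvw (z2 addself z2add eq_of_add_eq_zero')
open Cfsg.Agent.Omega.FOne.NOv.TrA (ap_mul ap_one inv_ap ap_inv)

universe u

variable {Γ : Type*} {M : Type u} [Group Γ] [AddCommGroup M] [Module (ZMod 2) M]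

/-- `m ↦ [m, g]` -/
def dl (ρ : Γ →* Module.End (ZMod 2) M) (g : Γ) : M →ₗ[ZMod 2] M := ρ g + LinearMap.id

theorem dl_apply (ρ : Γ →* Module.End (ZMod 2) M) (g : Γ) (m : M) : dl ρ g m = ρ g m + m := rfl

theorem ap_eq (ρ : Γ →* Module.End (ZMod 2) M) (g : Γ) (m : M) : ρ g m = m + dl ρ g m := by
  rw [dl_apply]; linear_combination (norm := module) -addself m

theorem dl_eq_zero {ρ : Γ →* Module.End (ZMod 2) M} {g : Γ} {m : M} : dl ρ g m = 0 ↔ ρ g m = m := by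
  rw [dl_apply]
  exact ⟨fun h => eq_of_add_eq_zero' h, fun h => by rw [h]; exact addself m⟩

/-- the fixed points -/
def cv (ρ : Γ →* Module.End (ZMod 2) M) (B : Subgroup Γ) : Submodule (ZMod 2) M where
  carrier := {v | ∀ b ∈ B, ρ b v = v}
  zero_mem' := fun b _ => map_zero _
  add_mem' := fun hv hw b hb => by rw [map_add, hv b hb, hw b hb]
  smul_mem' := fun c v hv b hb => by rw [map_smul, hv b hb]

theorem mem_cv {ρ : Γ →* Module.End (ZMod 2) M} {B : Subgroup Γ} {v : M} :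
    v ∈ cv ρ B ↔ ∀ b ∈ B, ρ b v = v := Iff.rfl

theorem cv_anti {ρ : Γ →* Module.End (ZMod 2) M} {B D : Subgroup Γ} (h : D ≤ B) : cv ρ B ≤ cv ρ D :=
  fun _ hv b hb => hv b (h hb)

/-- the normal closure of `B` in `L` -/
def L1 (B L : Subgroup Γ) : Subgroup Γ := closure {x | ∃ l ∈ L, ∃ b ∈ B, l * b * l⁻¹ = x}

theorem B_le_L1 {B L : Subgroup Γ} : B ≤ L1 B L := fun b hb =>
  subset_closure ⟨1, one_mem _, b, hb, by group⟩

theorem L1_le {B L : Subgroup Γ} (h : B ≤ L) : L1 B L ≤ L := by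
  rw [L1, closure_le]
  rintro _ ⟨l, hl, b, hb, rfl⟩
  exact L.mul_mem (L.mul_mem hl (h hb)) (L.inv_mem hl)

theorem L1_conj {B L : Subgroup Γ} {l g : Γ} (hl : l ∈ L) (hg : g ∈ L1 B L) : l * g * l⁻¹ ∈ L1 B L := by
  induction hg using closure_induction with
  | mem x hx =>
    obtain ⟨k, hk, b, hb, rfl⟩ := hx
    exact subset_closure ⟨l * k, L.mul_mem hl hk, b, hb, by group⟩
  | one => rw [mul_one, mul_inv_cancel]; exact one_mem _
  | mul x y _ _ hx hy =>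
    have : l * (x * y) * l⁻¹ = (l * x * l⁻¹) * (l * y * l⁻¹) := by group
    rw [this]; exact mul_mem hx hy
  | inv x _ hx =>
    have : l * x⁻¹ * l⁻¹ = (l * x * l⁻¹)⁻¹ := by group
    rw [this]; exact inv_mem hx

/-- the hypotheses of the abstract THEOREM A -/
structure Fr (ρ : Γ →* Module.End (ZMod 2) M) (B L N : Subgroup Γ) (X : Submodule (ZMod 2) M)
    (Φ : Γ → M → ZMod 2) : Prop where
  inj : Function.Injective ρ
  BL : B ≤ L
  BN : B ≤ N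
  Lm : ∀ l ∈ L, ∀ v, ρ l v + v ∈ X
  sq : ∀ b ∈ B, b * b = 1
  quad : ∀ b ∈ B, ∀ b' ∈ B, ∀ v, ρ b' (ρ b v + v) = ρ b v + v
  ex : Nat.card B * Nat.card (cv ρ B) = Nat.card M
  atom : ∀ D ≤ B, Nat.card D * Nat.card (cv ρ D) = Nat.card M → D = ⊥ ∨ D = B
  no : ∀ A ≤ N, (∀ a ∈ A, a * a = 1) → Nat.card A * Nat.card (cv ρ A) ≤ Nat.card M
  nN : ∀ u ∈ L, (∀ v ∈ X, ρ u v = v) → ∀ n ∈ N, u * n * u⁻¹ ∈ N
  fX : ∀ b ∈ B, (∀ v ∈ X, ρ b v = v) → b = 1
  rad : ∀ R ≤ L1 B L, (∀ g ∈ L1 B L, ∀ r ∈ R, g * r * g⁻¹ ∈ R) → IsPGroup 2 R → ∀ r ∈ R, ∀ v ∈ X, ρ r v = v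
  padd : ∀ u ∈ L, (∀ v ∈ X, ρ u v = v) → ∀ v ∈ X, ∀ w ∈ X, Φ u (v + w) = Φ u v + Φ u w
  pmul : ∀ u ∈ L, (∀ v ∈ X, ρ u v = v) → ∀ u' ∈ L, (∀ v ∈ X, ρ u' v = v) → ∀ v ∈ X,
    Φ (u * u') v = Φ u v + Φ u' v
  pinv : ∀ u ∈ L, (∀ v ∈ X, ρ u v = v) → ∀ l ∈ L, ∀ v ∈ X, Φ (l * u * l⁻¹) (ρ l v) = Φ u v
  pcomm : ∀ u ∈ L, (∀ v ∈ X, ρ u v = v) → ∀ u' ∈ L, (∀ v ∈ X, ρ u' v = v) → ∀ m,
    Φ u' (ρ u m + m) = Φ u (ρ u' m + m)
  pself : ∀ u ∈ L, (∀ v ∈ X, ρ u v = v) → ∀ m, Φ u (ρ u m + m) = 0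
  mv : ∃ u ∈ L, (∀ v ∈ X, ρ u v = v) ∧ ∃ b ∈ B, ∃ v ∈ X, Φ u (ρ b v + v) ≠ 0

/-- `C_L(X)` -/
def YY (ρ : Γ →* Module.End (ZMod 2) M) (L : Subgroup Γ) (X : Submodule (ZMod 2) M) : Subgroup Γ where
  carrier := {u | u ∈ L ∧ ∀ v ∈ X, ρ u v = v}
  one_mem' := ⟨L.one_mem, fun v _ => ap_one ρ v⟩
  mul_mem' := fun {a b} ha hb => ⟨L.mul_mem ha.1 hb.1, fun v hv => by rw [ap_mul, hb.2 v hv, ha.2 v hv]⟩
  inv_mem' := fun {a} ha => ⟨L.inv_mem ha.1, fun v hv => by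
    conv_lhs => rw [← ha.2 v hv]
    exact inv_ap ρ a v⟩

theorem mem_YY {ρ : Γ →* Module.End (ZMod 2) M} {L : Subgroup Γ} {X : Submodule (ZMod 2) M} {u : Γ} :
    u ∈ YY ρ L X ↔ u ∈ L ∧ ∀ v ∈ X, ρ u v = v := Iff.rfl

/-! ### counting -/

theorem card_sup_inf [Finite M] (U V : Submodule (ZMod 2) M) :
    Nat.card (U ⊔ V : Submodule (ZMod 2) M) * Nat.card (U ⊓ V : Submodule (ZMod 2) M) =
      Nat.card U * Nat.card V := by
  have h1 := Submodule.finrank_sup_add_finrank_inf_eq U V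
  rw [Module.natCard_eq_pow_finrank (K := ZMod 2) (V := U), Module.natCard_eq_pow_finrank (K := ZMod 2) (V := V),
    Module.natCard_eq_pow_finrank (K := ZMod 2) (V := (U ⊔ V : Submodule (ZMod 2) M)),
    Module.natCard_eq_pow_finrank (K := ZMod 2) (V := (U ⊓ V : Submodule (ZMod 2) M)), ← pow_add, ← pow_add, h1]

theorem card_comap [Finite M] (f : M →ₗ[ZMod 2] M) (C : Submodule (ZMod 2) M) :
    Nat.card M * Nat.card (LinearMap.range f ⊓ C : Submodule (ZMod 2) M) =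
      Nat.card (LinearMap.range f) * Nat.card (C.comap f) := by
  have h1 := LinearMap.finrank_range_add_finrank_ker f
  let g : C.comap f →ₗ[ZMod 2] M := f.comp (C.comap f).subtype
  have h2 := LinearMap.finrank_range_add_finrank_ker g
  have h3 : LinearMap.range g = LinearMap.range f ⊓ C := by
    ext x
    constructor
    · rintro ⟨⟨v, hv⟩, rfl⟩
      exact ⟨⟨v, rfl⟩, hv⟩
    · rintro ⟨⟨v, rfl⟩, hv⟩
      exact ⟨⟨v, hv⟩, rfl⟩
  have h4 : Module.finrank (ZMod 2) (LinearMap.ker g) = Module.finrank (ZMod 2) (LinearMap.ker f) := by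
    refine LinearEquiv.finrank_eq (LinearEquiv.ofBijective
      ({ toFun := fun x => ⟨x.1.1, x.2⟩
         map_add' := fun _ _ => rfl
         map_smul' := fun _ _ => rfl } : LinearMap.ker g →ₗ[ZMod 2] LinearMap.ker f) ⟨?_, ?_⟩)
    · intro a b hab
      have h5 := congrArg (fun t : LinearMap.ker f => (t : M)) hab
      exact Subtype.ext (Subtype.ext h5)
    · rintro ⟨v, hv⟩
      refine ⟨⟨⟨v, ?_⟩, hv⟩, rfl⟩
      rw [Submodule.mem_comap, LinearMap.mem_ker.mp hv]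
      exact C.zero_mem
  rw [h3, h4] at h2
  rw [Module.natCard_eq_pow_finrank (K := ZMod 2) (V := M),
    Module.natCard_eq_pow_finrank (K := ZMod 2) (V := (LinearMap.range f ⊓ C : Submodule (ZMod 2) M)),
    Module.natCard_eq_pow_finrank (K := ZMod 2) (V := LinearMap.range f),
    Module.natCard_eq_pow_finrank (K := ZMod 2) (V := C.comap f), ← pow_add, ← pow_add]
  congr 1
  omega

namespace Fr

variable {ρ : Γ →* Module.End (ZMod 2) M} {B L N : Subgroup Γ} {X : Submodule (ZMod 2) M} {Φ : Γ → M → ZMod 2}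
  (h : Fr ρ B L N X Φ)
include h

theorem ext {g k : Γ} (e : ∀ v, ρ g v = ρ k v) : g = k := h.inj (LinearMap.ext e)

theorem LX {l : Γ} (hl : l ∈ L) {v : M} (hv : v ∈ X) : ρ l v ∈ X := by
  rw [ap_eq]; exact X.add_mem hv (h.Lm l hl v)

theorem inv {b : Γ} (hb : b ∈ B) : b⁻¹ = b := inv_eq_of_mul_eq_one_left (h.sq b hb)

variable {u u' : Γ} (hu : u ∈ YY ρ L X) (hu' : u' ∈ YY ρ L X)
include hu

theorem dX (m : M) : dl ρ u m ∈ X := h.Lm u hu.1 m

omit h in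
theorem dzero {v : M} (hv : v ∈ X) : dl ρ u v = 0 := dl_eq_zero.mpr (hu.2 v hv)

theorem d_ap {l : Γ} (hl : l ∈ L) (m : M) : dl ρ u (ρ l m) = dl ρ u m := by
  have h1 : dl ρ u (dl ρ l m) = 0 := dzero hu (h.Lm l hl m)
  rw [ap_eq ρ l m, map_add, h1, add_zero]

theorem usq : u * u = 1 := by
  refine h.ext fun v => ?_
  rw [ap_mul, ap_one, ap_eq ρ u (ρ u v), h.d_ap hu hu.1, ap_eq ρ u v, add_assoc, addself, add_zero]

theorem uinv : u⁻¹ = u := inv_eq_of_mul_eq_one_left (h.usq hu)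

theorem conj {l : Γ} (hl : l ∈ L) : l * u * l⁻¹ ∈ YY ρ L X := by
  refine ⟨L.mul_mem (L.mul_mem hl hu.1) (L.inv_mem hl), fun v hv => ?_⟩
  rw [ap_mul, ap_mul, hu.2 _ (h.LX (L.inv_mem hl) hv), ap_inv]

theorem d_conj {l : Γ} (hl : l ∈ L) (m : M) : dl ρ (l * u * l⁻¹) m = ρ l (dl ρ u m) := by
  have h1 : dl ρ (l * u * l⁻¹) m = ρ l (dl ρ u (ρ l⁻¹ m)) := by
    rw [dl_apply, dl_apply, ap_mul, ap_mul, map_add, ap_inv]
  rw [h1, h.d_ap hu (L.inv_mem hl)]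

theorem pconj {l : Γ} (hl : l ∈ L) {v : M} (hv : v ∈ X) : Φ (l * u * l⁻¹) v = Φ u (ρ l⁻¹ v) := by
  have h1 := h.pinv u hu.1 hu.2 l hl (ρ l⁻¹ v) (h.LX (L.inv_mem hl) hv)
  rwa [ap_inv] at h1

theorem pzero : Φ u 0 = 0 := by
  have h1 := h.padd u hu.1 hu.2 0 X.zero_mem 0 X.zero_mem
  rw [add_zero] at h1
  rcases z2 (Φ u 0) with a | a
  · exact a
  · rw [a] at h1; exact absurd h1 (by decide)

include hu'

theorem d_mul (m : M) : dl ρ (u * u') m = dl ρ u m + dl ρ u' m := by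
  have h1 : dl ρ u (ρ u' m) = dl ρ u m := h.d_ap hu hu'.1 m
  rw [dl_apply, ap_mul, ap_eq ρ u, h1, ap_eq ρ u' m]
  linear_combination (norm := module) addself m

theorem pc (m : M) : Φ u' (dl ρ u m) = Φ u (dl ρ u' m) := h.pcomm u hu.1 hu.2 u' hu'.1 hu'.2 m

omit hu'

/-! ### the commutators `[u, b]` -/

/-- `z_b = [u, b]` -/
theorem z_mem {b : Γ} (hb : b ∈ L) : u * (b * u * b⁻¹) ∈ YY ρ L X := mul_mem hu (h.conj hu hb)

theorem d_z {b : Γ} (hb : b ∈ L) (m : M) : dl ρ (u * (b * u * b⁻¹)) m = dl ρ b (dl ρ u m) := by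
  rw [h.d_mul hu (h.conj hu hb), h.d_conj hu hb, dl_apply ρ b, add_comm]

omit hu in
theorem dq {b b' : Γ} (hb : b ∈ B) (hb' : b' ∈ B) (v : M) : dl ρ b' (dl ρ b v) = 0 :=
  dl_eq_zero.mpr (h.quad b hb b' hb' v)

omit hu in
theorem dbb {b b' : Γ} (hb : b ∈ B) (hb' : b' ∈ B) (v : M) : dl ρ (b * b') v = dl ρ b v + dl ρ b' v := by
  have h1 := h.dq hb' hb v
  rw [dl_apply, ap_mul, ap_eq ρ b' v, map_add, ap_eq ρ b v, ap_eq ρ b (dl ρ b' v), h1]
  linear_combination (norm := module) addself v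

/-- the homomorphism `b ↦ [u, b]` -/
theorem zmul {b b' : Γ} (hb : b ∈ B) (hb' : b' ∈ B) :
    u * (b * b' * u * (b * b')⁻¹) = u * (b * u * b⁻¹) * (u * (b' * u * b'⁻¹)) := by
  have hbL := h.BL hb
  have hbL' := h.BL hb'
  refine h.ext fun v => ?_
  rw [ap_eq, ap_eq ρ (u * (b * u * b⁻¹) * (u * (b' * u * b'⁻¹))), h.d_z hu (L.mul_mem hbL hbL'),
    h.d_mul (h.z_mem hu hbL) (h.z_mem hu hbL'), h.d_z hu hbL, h.d_z hu hbL', h.dbb hb hb']

/-- `[u, B]` -/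
def ub (h : Fr ρ B L N X Φ) (u : Γ) (hu : u ∈ YY ρ L X) : B →* Γ where
  toFun b := u * ((b : Γ) * u * (b : Γ)⁻¹)
  map_one' := by
    change u * (1 * u * 1⁻¹) = 1
    rw [inv_one, one_mul, mul_one, h.usq hu]
  map_mul' b b' := h.zmul hu b.2 b'.2

theorem z_mem_N {b : Γ} (hb : b ∈ B) : u * (b * u * b⁻¹) ∈ N := by
  have h1 := N.mul_mem (h.nN u hu.1 hu.2 b (h.BN hb)) (N.inv_mem (h.BN hb))
  have h2 : u * b * u⁻¹ * b⁻¹ = u * (b * u * b⁻¹) := by rw [h.uinv hu]; group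
  rwa [h2] at h1

end Fr

/-! ### (U) -/

/-- `C_B(U)` -/
def cb (ρ : Γ →* Module.End (ZMod 2) M) (B : Subgroup Γ) (U : Submodule (ZMod 2) M) : Subgroup Γ where
  carrier := {b | b ∈ B ∧ ∀ v ∈ U, ρ b v = v}
  one_mem' := ⟨B.one_mem, fun v _ => ap_one ρ v⟩
  mul_mem' := fun {a b} ha hb => ⟨B.mul_mem ha.1 hb.1, fun v hv => by rw [ap_mul, hb.2 v hv, ha.2 v hv]⟩
  inv_mem' := fun {a} ha => ⟨B.inv_mem ha.1, fun v hv => by
    conv_lhs => rw [← ha.2 v hv]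
    exact inv_ap ρ a v⟩

namespace Fr

variable {ρ : Γ →* Module.End (ZMod 2) M} {B L N : Subgroup Γ} {X : Submodule (ZMod 2) M} {Φ : Γ → M → ZMod 2}
  [Finite Γ] [Finite M] (h : Fr ρ B L N X Φ)
include h

/-- **(U)** -/
theorem U_le (U : Submodule (ZMod 2) M) :
    Nat.card (cb ρ B U) * Nat.card U ≤ Nat.card B * Nat.card (U ⊓ cv ρ B : Submodule (ZMod 2) M) ∧
      (Nat.card B * Nat.card (U ⊓ cv ρ B : Submodule (ZMod 2) M) ≤ Nat.card (cb ρ B U) * Nat.card U →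
        (cb ρ B U = ⊥ ∧ U ⊔ cv ρ B = ⊤) ∨ cb ρ B U = B) := by
  set D := cb ρ B U with hD
  have hDB : D ≤ B := fun b hb => hb.1
  have h1 : U ⊔ cv ρ B ≤ cv ρ D := sup_le (fun v hv b hb => hb.2 v hv) (cv_anti hDB)
  have h2 := card_sup_inf U (cv ρ B)
  have h3 : Nat.card (U ⊔ cv ρ B : Submodule (ZMod 2) M) ≤ Nat.card (cv ρ D) :=
    Nat.card_le_card_of_injective (Submodule.inclusion h1) (Submodule.inclusion_injective h1)
  have h4 := h.no D (hDB.trans h.BN) fun a ha => h.sq a (hDB ha)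
  have h5 := h.ex
  have p1 : 0 < Nat.card (cv ρ B) := Nat.card_pos
  have p2 : 0 < Nat.card (U ⊓ cv ρ B : Submodule (ZMod 2) M) := Nat.card_pos
  have p3 : 0 < Nat.card D := Nat.card_pos
  set a := Nat.card (U ⊔ cv ρ B : Submodule (ZMod 2) M)
  set i := Nat.card (U ⊓ cv ρ B : Submodule (ZMod 2) M)
  have h6 : Nat.card D * Nat.card U * Nat.card (cv ρ B) ≤ Nat.card B * i * Nat.card (cv ρ B) := by
    calc Nat.card D * Nat.card U * Nat.card (cv ρ B) = Nat.card D * (a * i) := by rw [h2]; ring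
      _ ≤ Nat.card D * (Nat.card (cv ρ D) * i) := Nat.mul_le_mul_left _ (Nat.mul_le_mul_right _ h3)
      _ = Nat.card D * Nat.card (cv ρ D) * i := by ring
      _ ≤ Nat.card M * i := Nat.mul_le_mul_right _ h4
      _ = Nat.card B * i * Nat.card (cv ρ B) := by rw [← h5]; ring
  refine ⟨Nat.le_of_mul_le_mul_right h6 p1, fun h7 => ?_⟩
  -- equality
  have h8 : Nat.card M * i ≤ Nat.card D * (a * i) := by
    calc Nat.card M * i = Nat.card B * i * Nat.card (cv ρ B) := by rw [← h5]; ring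
      _ ≤ Nat.card D * Nat.card U * Nat.card (cv ρ B) := Nat.mul_le_mul_right _ h7
      _ = Nat.card D * (a * i) := by rw [h2]; ring
  have h9 : Nat.card M ≤ Nat.card D * a := by
    rw [← mul_assoc] at h8
    exact Nat.le_of_mul_le_mul_right h8 p2
  have h10 : Nat.card D * Nat.card (cv ρ D) ≤ Nat.card D * a := h4.trans h9
  have h11 : Nat.card (cv ρ D) ≤ a := Nat.le_of_mul_le_mul_left h10 p3
  have h12 : Nat.card D * Nat.card (cv ρ D) = Nat.card M :=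
    le_antisymm h4 (h9.trans (Nat.mul_le_mul_left _ h3))
  rcases h.atom D hDB h12 with h13 | h13
  · left
    refine ⟨h13, ?_⟩
    have h14 : (cv ρ D : Submodule (ZMod 2) M) = ⊤ := by
      rw [h13, eq_top_iff]
      intro v _ b hb
      rw [mem_bot.mp hb, ap_one]
    rw [h14] at h11 h1
    have h15 : Nat.card (⊤ : Submodule (ZMod 2) M) = Nat.card M :=
      Nat.card_congr (Equiv.subtypeUnivEquiv fun _ => trivial)
    rw [h15] at h11
    have h16 : (U ⊔ cv ρ B : Submodule (ZMod 2) M).toAddSubgroup = ⊤ :=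
      AddSubgroup.eq_top_of_le_card _ h11
    rw [eq_top_iff]
    intro v _
    have : v ∈ (U ⊔ cv ρ B : Submodule (ZMod 2) M).toAddSubgroup := by rw [h16]; trivial
    exact this
  · right; exact h13

/-- `u` is moved by `B` -/
def _root_.Cfsg.Agent.Omega.FOne.ThmA.Mv (ρ : Γ →* Module.End (ZMod 2) M) (B : Subgroup Γ) (u : Γ) : Prop :=
  ∃ b ∈ B, ∃ m, dl ρ b (dl ρ u m) ≠ 0

variable {u : Γ} (hu : u ∈ YY ρ L X)
include hu

/-- **(2)** -/
theorem two (hm : Mv ρ B u) :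
    (∀ b ∈ B, (∀ m, dl ρ b (dl ρ u m) = 0) → b = 1) ∧ ∀ v, ∃ m, ∃ w ∈ cv ρ B, v = dl ρ u m + w := by
  set U := LinearMap.range (dl ρ u) with hU
  -- `[u, B]`
  have hZ := h.no (h.ub u hu).range (by
    rintro _ ⟨b, rfl⟩
    exact h.z_mem_N hu b.2) (by
    rintro _ ⟨b, rfl⟩
    exact h.usq (h.z_mem hu (h.BL b.2)))
  have h1 : cv ρ (h.ub u hu).range = (cv ρ B).comap (dl ρ u) := by
    ext m
    constructor
    · intro hm b hb
      have := hm _ ⟨⟨b, hb⟩, rfl⟩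
      rw [← dl_eq_zero] at this
      change dl ρ (u * (b * u * b⁻¹)) m = 0 at this
      rw [h.d_z hu (h.BL hb)] at this
      exact dl_eq_zero.mp this
    · rintro hm _ ⟨b, rfl⟩
      rw [← dl_eq_zero]
      change dl ρ (u * ((b : Γ) * u * (b : Γ)⁻¹)) m = 0
      rw [h.d_z hu (h.BL b.2)]
      exact dl_eq_zero.mpr (hm b b.2)
  have h2 : Nat.card (h.ub u hu).range * Nat.card (cb ρ B U) = Nat.card B := by
    have h3 : Nat.card (h.ub u hu).ker = Nat.card (cb ρ B U) := by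
      refine Nat.card_congr
        { toFun := fun b => ⟨b.1, b.1.2, ?_⟩
          invFun := fun b => ⟨⟨b.1, b.2.1⟩, ?_⟩
          left_inv := fun b => rfl
          right_inv := fun b => rfl }
      · rintro _ ⟨m, rfl⟩
        rw [← dl_eq_zero, ← h.d_z hu (h.BL b.1.2)]
        have := b.2
        rw [MonoidHom.mem_ker] at this
        change u * ((b.1 : Γ) * u * (b.1 : Γ)⁻¹) = 1 at this
        rw [this, dl_eq_zero, ap_one]
      · rw [MonoidHom.mem_ker]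
        change u * ((b : Γ) * u * (b : Γ)⁻¹) = 1
        refine h.ext fun v => ?_
        rw [ap_one, ← dl_eq_zero, h.d_z hu (h.BL b.2.1), dl_eq_zero]
        exact b.2.2 _ ⟨v, rfl⟩
    rw [← h3, mul_comm, ← Subgroup.index_ker]
    exact Subgroup.card_mul_index _
  have h3 := card_comap (dl ρ u) (cv ρ B)
  rw [← hU, ← h1] at h3
  have h4 : Nat.card B * Nat.card (U ⊓ cv ρ B : Submodule (ZMod 2) M) ≤ Nat.card (cb ρ B U) * Nat.card U := by
    have p : 0 < Nat.card (cv ρ (h.ub u hu).range) := Nat.card_pos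
    have p2 : 0 < Nat.card M := Nat.card_pos
    refine Nat.le_of_mul_le_mul_left ?_ p2
    calc Nat.card M * (Nat.card B * Nat.card (U ⊓ cv ρ B : Submodule (ZMod 2) M))
        = Nat.card B * (Nat.card M * Nat.card (U ⊓ cv ρ B : Submodule (ZMod 2) M)) := by ring
      _ = Nat.card B * (Nat.card U * Nat.card (cv ρ (h.ub u hu).range)) := by rw [h3]
      _ = (Nat.card (h.ub u hu).range * Nat.card (cv ρ (h.ub u hu).range)) * Nat.card (cb ρ B U) * Nat.card U := by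
          rw [← h2]; ring
      _ ≤ Nat.card M * Nat.card (cb ρ B U) * Nat.card U :=
          Nat.mul_le_mul_right _ (Nat.mul_le_mul_right _ hZ)
      _ = Nat.card M * (Nat.card (cb ρ B U) * Nat.card U) := by ring
  rcases (h.U_le U).2 h4 with ⟨h5, h6⟩ | h5
  · refine ⟨fun b hb hbm => ?_, fun v => ?_⟩
    · have : b ∈ cb ρ B U := ⟨hb, by
        rintro _ ⟨m, rfl⟩
        exact dl_eq_zero.mp (hbm m)⟩
      rw [h5] at this
      exact mem_bot.mp this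
    · have hv : v ∈ U ⊔ cv ρ B := by rw [h6]; trivial
      obtain ⟨_, ⟨m, rfl⟩, w, hw, e⟩ := Submodule.mem_sup.mp hv
      exact ⟨m, w, hw, e.symm⟩
  · exfalso
    obtain ⟨b, hb, m, hbm⟩ := hm
    rw [← h5] at hb
    exact hbm (dl_eq_zero.mpr (hb.2 _ ⟨m, rfl⟩))

/-- if `Φ(u) = 0` then `u` commutes with `B` -/
theorem not_mv (h0 : ∀ v ∈ X, Φ u v = 0) : ¬ Mv ρ B u := by
  intro hm
  obtain ⟨-, h2⟩ := h.two hu hm
  obtain ⟨r, hrL, hrX, b, hb, v, hv, hne⟩ := h.mv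
  have hr : r ∈ YY ρ L X := ⟨hrL, hrX⟩
  apply hne
  obtain ⟨m, w, hw, e⟩ := h2 v
  have hbL := h.BL hb
  have hdX : dl ρ u m ∈ X := h.dX hu m
  have e1 : ρ b v + v = ρ b (dl ρ u m) + dl ρ u m := by
    rw [e, map_add, hw b hb]
    linear_combination (norm := module) addself w
  rw [e1, h.padd r hrL hrX _ (h.LX hbL hdX) _ hdX]
  have e2 : Φ r (ρ b (dl ρ u m)) = Φ (b⁻¹ * r * b⁻¹⁻¹) (dl ρ u m) := by
    rw [h.pconj hr (L.inv_mem hbL) hdX, inv_inv]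
  rw [e2, h.pc hu (h.conj hr (L.inv_mem hbL)), h.pc hu hr, h0 _ (h.dX (h.conj hr (L.inv_mem hbL)) m),
    h0 _ (h.dX hr m), add_zero]

omit hu [Finite Γ] [Finite M] in
/-- a vector fixed by all conjugates of `B` under `L` is fixed by `L₁` -/
theorem fix_L1 {v : M} (hv : ∀ l ∈ L, ∀ b ∈ B, ρ (l * b * l⁻¹) v = v) {g : Γ} (hg : g ∈ L1 B L) : ρ g v = v := by
  induction hg using closure_induction with
  | mem x hx =>
    obtain ⟨l, hl, b, hb, rfl⟩ := hx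
    exact hv l hl b hb
  | one => exact ap_one ρ v
  | mul x y _ _ hx hy => rw [ap_mul, hy, hx]
  | inv x _ hx =>
    conv_lhs => rw [← hx]
    exact inv_ap ρ x v

/-- an `L`-invariant set of elements that commute with `B` commutes with `L₁` -/
theorem cent_of (hn : ∀ l ∈ L, ¬ Mv ρ B (l * u * l⁻¹)) {g : Γ} (hg : g ∈ L1 B L) (m : M) :
    ρ g (dl ρ u m) = dl ρ u m := by
  refine h.fix_L1 (fun l hl b hb => ?_) hg
  have h1 := hn l⁻¹ (L.inv_mem hl)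
  simp only [Mv, not_exists, not_and, not_not] at h1
  have h2 := h1 b hb m
  rw [h.d_conj hu (L.inv_mem hl), dl_eq_zero] at h2
  rw [ap_mul, ap_mul, h2, ap_inv]

omit hu in
/-- `[M, b] ≤ C_M(L₁)` implies `b = 1` -/
theorem eq_one {b : Γ} (hb : b ∈ B) (hf : ∀ g ∈ L1 B L, ∀ m, ρ g (dl ρ b m) = dl ρ b m) : b = 1 := by
  refine h.fX b hb ?_
  let R : Subgroup Γ :=
    { carrier := {x | x ∈ L1 B L ∧ ∀ g ∈ L1 B L, ∀ m, ρ g (dl ρ x m) = dl ρ x m}
      one_mem' := ⟨one_mem _, fun g _ m => by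
        have : dl ρ (1 : Γ) m = 0 := dl_eq_zero.mpr (ap_one ρ m)
        rw [this, map_zero]⟩
      mul_mem' := by
        rintro x y ⟨hx, hx1⟩ ⟨hy, hy1⟩
        have key : ∀ m, dl ρ (x * y) m = dl ρ x m + dl ρ y m := by
          intro m
          have e1 := hy1 x hx m
          rw [dl_apply, ap_mul, ap_eq ρ y m, map_add, e1, ap_eq ρ x m]
          linear_combination (norm := module) addself m
        refine ⟨mul_mem hx hy, fun g hg m => ?_⟩
        rw [key, map_add, hx1 g hg, hy1 g hg]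
      inv_mem' := by
        rintro x ⟨hx, hx1⟩
        have key : ∀ m, dl ρ x⁻¹ m = dl ρ x m := by
          intro m
          have e1 := hx1 x⁻¹ (inv_mem hx) m
          have e2 : ρ x⁻¹ (dl ρ x m) = dl ρ x⁻¹ m := by
            rw [dl_apply, dl_apply, map_add, inv_ap, add_comm]
          rw [← e2, e1]
        refine ⟨inv_mem hx, fun g hg m => ?_⟩
        rw [key, hx1 g hg] }
  have hR1 : R ≤ L1 B L := fun x hx => hx.1
  have hR2 : ∀ g ∈ L1 B L, ∀ r ∈ R, g * r * g⁻¹ ∈ R := by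
    rintro g hg r ⟨hr, hr1⟩
    refine ⟨mul_mem (mul_mem hg hr) (inv_mem hg), fun k hk m => ?_⟩
    have key : dl ρ (g * r * g⁻¹) m = ρ g (dl ρ r (ρ g⁻¹ m)) := by
      rw [dl_apply, dl_apply, ap_mul, ap_mul, map_add, ap_inv]
    rw [key, hr1 g hg, hr1 k hk]
  have hR3 : IsPGroup 2 R := by
    rintro ⟨x, hx, hx1⟩
    refine ⟨1, Subtype.ext ?_⟩
    change x ^ (2 ^ 1) = 1
    rw [pow_one, pow_two]
    refine h.ext fun v => ?_
    have e1 := hx1 x hx v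
    rw [ap_mul, ap_one, ap_eq ρ x v, map_add, e1, ap_eq ρ x v]
    linear_combination (norm := module) addself (dl ρ x v)
  exact h.rad R hR1 hR2 hR3 b ⟨B_le_L1 hb, hf⟩

/-- `[u, b]` is not centralised by `L₁` -/
theorem z_one (hm : Mv ρ B u) {b : Γ} (hb : b ∈ B)
    (hf : ∀ g ∈ L1 B L, ∀ m, ρ g (dl ρ (u * (b * u * b⁻¹)) m) = dl ρ (u * (b * u * b⁻¹)) m) : b = 1 := by
  obtain ⟨-, h2⟩ := h.two hu hm
  refine h.eq_one hb fun g hg v => ?_
  obtain ⟨m, w, hw, rfl⟩ := h2 v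
  have e : dl ρ b (dl ρ u m + w) = dl ρ (u * (b * u * b⁻¹)) m := by
    rw [h.d_z hu (h.BL hb), map_add, dl_eq_zero.mpr (hw b hb), add_zero]
  rw [e, hf g hg m]

/-- **(c')** : `Φ(u)` is not trivial on `[X, b]` -/
theorem sep (hm : Mv ρ B u) {b : Γ} (hb : b ∈ B) (hb1 : b ≠ 1) : ∃ v ∈ X, Φ u (dl ρ b v) ≠ 0 := by
  by_contra hcon
  push Not at hcon
  apply hb1
  have hbL := h.BL hb
  have hz := h.z_mem hu hbL
  have hz0 : ∀ v ∈ X, Φ (u * (b * u * b⁻¹)) v = 0 := by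
    intro v hv
    rw [h.pmul u hu.1 hu.2 _ (h.conj hu hbL).1 (h.conj hu hbL).2 v hv, h.pconj hu hbL hv, h.inv hb,
      ← h.padd u hu.1 hu.2 _ hv _ (h.LX hbL hv)]
    have := hcon v hv
    rwa [dl_apply, add_comm] at this
  refine h.z_one hu hm hb fun g hg m => h.cent_of hz (fun l hl => ?_) hg m
  refine h.not_mv (h.conj hz hl) fun v hv => ?_
  rw [h.pconj hz hl hv]
  exact hz0 _ (h.LX (L.inv_mem hl) hv)

end Fr

end Cfsg.Agent.Omega.FOne.ThmA
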