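import Cfsg.Agent.Omega.FOne.Glue.Def
import Cfsg.Agent.Omega.FOne.NOv.Tr
import Cfsg.Agent.Omega.FOne.ThmA.Base
import Cfsg.Agent.ZN.Facts

/-!
# (F1'), the REDUCTION (helper297 #20655 (a)-(c), referee helper270 #21082): definitions and (NO)

* `St X y θ T` : the situation; `Good X y θ B` : `B ≤ O₂(C_X(θ mod y))` is an exact atom of order at least 4;
* `WR R y θ = ⟨y, θ^R⟩`; `Fq X y U` : the elements of `X` which are trivial on `U` modulo `y`;
* `ThA` : the statement of THEOREM A;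
* `St.nor` : (NO) on `WR R y θ`.
-/

set_option autoImplicit false
set_option linter.unusedSectionVars false

namespace Cfsg.Agent.Omega.FOne.ThmA

open Subgroup Cfsg Cfsg.Agent.ZN
open Cfsg.Agent.Omega.FOne.Tvw (Base z2 addself ap_inv inv_ap)
open Cfsg.Agent.Omega.FOne.NOv
open Cfsg.Agent.ClassTwoFusion.Quad
open Cfsg.Agent.Omega.ML.MinFrame

universe u

section defs

variable {W : Type*} [AddCommGroup W] [Module (ZMod 2) W]

/-- the elements of `X` which fix `y` and are trivial on `U` modulo `y` -/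
def Fq (X : Subgroup (W ≃ₗ[ZMod 2] W)) (y : W) (U : Set W) : Subgroup (W ≃ₗ[ZMod 2] W) where
  carrier := {x | x ∈ X ∧ x y = y ∧ ∀ v ∈ U, x v = v ∨ x v = v + y}
  one_mem' := ⟨X.one_mem, rfl, fun v _ => Or.inl rfl⟩
  mul_mem' := by
    rintro a b ⟨a1, a2, a3⟩ ⟨b1, b2, b3⟩
    refine ⟨X.mul_mem a1 b1, ?_, fun v hv => ?_⟩
    · change a (b y) = y
      rw [b2, a2]
    · change a (b v) = v ∨ a (b v) = v + y
      rcases b3 v hv with h | h <;> rw [h]
      · exact a3 v hv
      · rw [map_add, a2]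
        rcases a3 v hv with h' | h' <;> rw [h']
        · right; rfl
        · left; rw [add_assoc, addself, add_zero]
  inv_mem' := by
    rintro a ⟨a1, a2, a3⟩
    have h1 : a⁻¹ y = y := by
      have := inv_ap a y
      rwa [a2] at this
    refine ⟨X.inv_mem a1, h1, fun v hv => ?_⟩
    rcases a3 v hv with h | h
    · left
      have := inv_ap a v
      rwa [h] at this
    · right
      have h2 := inv_ap a v
      rw [h, map_add, h1] at h2
      calc a⁻¹ v = a⁻¹ v + y + y := by rw [add_assoc, addself, add_zero]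
        _ = v + y := by rw [h2]

theorem mem_Fq {X : Subgroup (W ≃ₗ[ZMod 2] W)} {y : W} {U : Set W} {x : W ≃ₗ[ZMod 2] W} :
    x ∈ Fq X y U ↔ x ∈ X ∧ x y = y ∧ ∀ v ∈ U, x v = v ∨ x v = v + y := Iff.rfl

theorem Fq_le {X : Subgroup (W ≃ₗ[ZMod 2] W)} {y : W} {U : Set W} : Fq X y U ≤ X := fun _ h => h.1

/-- the preimage of `⟨λ^R⟩` -/
def WR (R : Subgroup (W ≃ₗ[ZMod 2] W)) (y θ : W) : Submodule (ZMod 2) W :=
  Submodule.span (ZMod 2) ({y} ∪ {v | ∃ r ∈ R, r θ = v})

/-- the vectors fixed modulo `y` by `x` -/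
def fm (y : W) (x : W ≃ₗ[ZMod 2] W) : Submodule (ZMod 2) W where
  carrier := {v | x v = v ∨ x v = v + y}
  zero_mem' := Or.inl (map_zero x)
  add_mem' := by
    rintro v w hv hw
    have e2 : y + y = 0 := addself y
    rcases hv with h1 | h1 <;> rcases hw with h2 | h2 <;> change _ ∨ _ <;> rw [map_add, h1, h2]
    · exact Or.inl rfl
    · right; abel
    · right; abel
    · left
      calc v + y + (w + y) = v + w + (y + y) := by abel
        _ = v + w := by rw [e2, add_zero]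
  smul_mem' := by
    intro c w hw
    rcases z2 c with rfl | rfl
    · rw [zero_smul]; exact Or.inl (map_zero x)
    · rw [one_smul]; exact hw

theorem mem_fm {y : W} {x : W ≃ₗ[ZMod 2] W} {v : W} : v ∈ fm y x ↔ x v = v ∨ x v = v + y := Iff.rfl

/-- **The situation** -/
structure St (X : Subgroup (W ≃ₗ[ZMod 2] W)) (y θ : W) (T : Subgroup (W ≃ₗ[ZMod 2] W)) : Prop where
  known : IsKGroupWith IsKnownSimple' X
  base : Base X y
  TX : T ≤ X
  two : IsPGroup 2 T
  syl : ¬ 2 ∣ T.relIndex X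
  fixT : ∀ w, (∀ t ∈ T, t w = w) → w = 0 ∨ w = y
  θ0 : θ ≠ 0
  θy : θ ≠ y
  Tθ : ∀ t ∈ T, t θ = θ ∨ t θ = θ + y
  gen : ∀ U : Submodule (ZMod 2) W, y ∈ U → (∀ x ∈ X, x θ ∈ U) → U = ⊤

/-- an exact atom of `O₂(C_X(θ mod y))` of order at least 4 -/
structure Good (X : Subgroup (W ≃ₗ[ZMod 2] W)) (y θ : W) (B : Subgroup (W ≃ₗ[ZMod 2] W)) : Prop where
  BO : B ≤ o2 (Fq X y {θ})
  sq : ∀ b ∈ B, b * b = 1
  quadM : ∀ a ∈ B, ∀ b ∈ B, ∀ w, b (a w + w) = a w + w ∨ b (a w + w) = a w + w + y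
  atom : MAtom y B
  four : 4 ≤ Nat.card B

/-- **(LA)** : all atoms are low -/
def LA (X : Subgroup (W ≃ₗ[ZMod 2] W)) (y θ : W) (T : Subgroup (W ≃ₗ[ZMod 2] W)) : Prop :=
  ∀ B, Good X y θ B → ∀ R, T ≤ R → R ≤ X → R ≠ X → B ≤ o2 R ∧ B ≤ Fq R y (WR R y θ)

end defs

/-- **THEOREM A** (the statement) -/
def ThA : Prop :=
  ∀ (W : Type u) [AddCommGroup W] [Module (ZMod 2) W] [Finite W] (X R : Subgroup (W ≃ₗ[ZMod 2] W)) (y θ : W)
    (T B : Subgroup (W ≃ₗ[ZMod 2] W)), St X y θ T → T ≤ R → R ≤ X → Good X y θ B → B ⊓ Fq R y (WR R y θ) = ⊥ →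
    WR R y θ ⊔ cms y B = ⊤ → Nat.card B * Nat.card (WR R y θ ⊓ cms y B : Submodule (ZMod 2) W) = Nat.card (WR R y θ) →
    ∀ k ∈ Fq R y (WR R y θ), ∀ l ∈ L1 B R, ∀ v ∈ WR R y θ, k (l v + v) = l v + v

section basic

theorem ri_card {G : Type*} [Group G] {K H : Subgroup G} (h : K ≤ H) : K.relIndex H * Nat.card K = Nat.card H := by
  rw [mul_comm, ← relIndex_bot_left, ← relIndex_bot_left H]
  exact relIndex_mul_relIndex _ _ _ bot_le h

variable {W : Type*} [AddCommGroup W] [Module (ZMod 2) W] {X R T B : Subgroup (W ≃ₗ[ZMod 2] W)} {y θ : W}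

theorem y_mem_WR : y ∈ WR R y θ := Submodule.subset_span (Or.inl rfl)

theorem ap_mem_WR {r : W ≃ₗ[ZMod 2] W} (hr : r ∈ R) : r θ ∈ WR R y θ := Submodule.subset_span (Or.inr ⟨r, hr, rfl⟩)

theorem θ_mem_WR : θ ∈ WR R y θ := ap_mem_WR (r := 1) R.one_mem

theorem WR_le {U : Submodule (ZMod 2) W} (h0 : y ∈ U) (h : ∀ r ∈ R, r θ ∈ U) : WR R y θ ≤ U := by
  rw [WR, Submodule.span_le]
  rintro v (rfl | ⟨r, hr, rfl⟩)
  · exact h0
  · exact h r hr

theorem WR_inv (hy : ∀ r ∈ R, r y = y) {r : W ≃ₗ[ZMod 2] W} (hr : r ∈ R) {v : W} (hv : v ∈ WR R y θ) :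
    r v ∈ WR R y θ := by
  have h1 : WR R y θ ≤ (WR R y θ).comap (r : W →ₗ[ZMod 2] W) := by
    refine WR_le ?_ fun s hs => ?_
    · change r y ∈ WR R y θ
      rw [hy r hr]; exact y_mem_WR
    · exact ap_mem_WR (r := r * s) (R.mul_mem hr hs)
  exact h1 hv

theorem y_mem_fm {x : W ≃ₗ[ZMod 2] W} (hx : x y = y) : y ∈ fm y x := Or.inl hx

/-- the elements of `Fq X y (WR R y θ)` -/
theorem mem_Fq_WR {x : W ≃ₗ[ZMod 2] W} :
    x ∈ Fq X y (WR R y θ) ↔ x ∈ X ∧ x y = y ∧ ∀ r ∈ R, x (r θ) = r θ ∨ x (r θ) = r θ + y := by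
  constructor
  · rintro ⟨h1, h2, h3⟩
    exact ⟨h1, h2, fun r hr => h3 _ (ap_mem_WR hr)⟩
  · rintro ⟨h1, h2, h3⟩
    refine ⟨h1, h2, fun v hv => ?_⟩
    have h4 : WR R y θ ≤ fm y x := WR_le (y_mem_fm h2) h3
    exact h4 hv

/-- conjugation -/
theorem conj_Fq {U : Set W} (hy : ∀ r ∈ R, r y = y) (hR : ∀ r ∈ R, ∀ v ∈ U, r v ∈ U) (hRX : R ≤ X)
    {r x : W ≃ₗ[ZMod 2] W} (hr : r ∈ R) (hx : x ∈ Fq X y U) : r * x * r⁻¹ ∈ Fq X y U := by
  refine ⟨X.mul_mem (X.mul_mem (hRX hr) hx.1) (X.inv_mem (hRX hr)), ?_, fun v hv => ?_⟩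
  · change r (x (r⁻¹ y)) = y
    rw [hy _ (R.inv_mem hr), hx.2.1, hy r hr]
  · change r (x (r⁻¹ v)) = v ∨ r (x (r⁻¹ v)) = v + y
    rcases hx.2.2 _ (hR _ (R.inv_mem hr) v hv) with h | h <;> rw [h]
    · left; exact ap_inv r v
    · right; rw [map_add, ap_inv, hy r hr]

end basic

namespace St

variable {W : Type u} [AddCommGroup W] [Module (ZMod 2) W] {X R T B : Subgroup (W ≃ₗ[ZMod 2] W)} {y θ : W}
variable (h : St X y θ T)
include h

theorem fixy {x : W ≃ₗ[ZMod 2] W} (hx : x ∈ X) : x y = y := h.base.fix x hx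

theorem T_le_stb : T ≤ Fq X y {θ} := fun t ht =>
  ⟨h.TX ht, h.fixy (h.TX ht), by rintro v rfl; exact h.Tθ t ht⟩

theorem sylR (hT : T ≤ R) (hR : R ≤ X) : ¬ 2 ∣ T.relIndex R := by
  intro h1
  refine h.syl (h1.trans ?_)
  rw [← relIndex_mul_relIndex T R X hT hR]
  exact dvd_mul_right _ _

variable [Finite W]

theorem o2_le_T (hT : T ≤ R) (hR : R ≤ X) : o2 R ≤ T := by
  have hfin : Finite (W ≃ₗ[ZMod 2] W) := DFunLike.finite _
  exact o2_le_of_sylow hT h.two (h.sylR hT hR)

theorem o2_stb_le : o2 (Fq X y {θ}) ≤ T := h.o2_le_T h.T_le_stb Fq_le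

theorem WR_top : WR X y θ = ⊤ := h.gen _ y_mem_WR fun _ hx => ap_mem_WR hx

theorem Fq_top : Fq X y ((⊤ : Submodule (ZMod 2) W) : Set W) = ⊥ := by
  rw [eq_bot_iff]
  intro x hx
  rw [mem_bot]
  exact h.base.faith x hx.1 fun w => hx.2.2 w trivial

/-- **(NO) on `⟨λ^R⟩`** -/
theorem nor (hML : ML.Final.MLK.{u, u}) (hT : T ≤ R) (hR : R ≤ X) (hB : B ≤ o2 (Fq X y {θ})) (hB2 : ∀ b ∈ B, b * b = 1) :
    Nat.card B * Nat.card (WR R y θ ⊓ cms y B : Submodule (ZMod 2) W) ≤
      Nat.card (B ⊓ Fq R y (WR R y θ) : Subgroup (W ≃ₗ[ZMod 2] W)) * Nat.card (WR R y θ) := by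
  classical
  have hfin : Finite (W ≃ₗ[ZMod 2] W) := DFunLike.finite _
  have hyR : ∀ r ∈ R, r y = y := fun r hr => h.fixy (hR hr)
  let _ := qact R y hyR
  have hfQ : Finite (QM y) := Finite.of_surjective (qm y) (qm_surj y)
  have hsm : ∀ (r : R) (w : W), r • qm y w = qm y ((r : W ≃ₗ[ZMod 2] W) w) := fun _ _ => rfl
  have hBR : B ≤ R := (hB.trans h.o2_stb_le).trans hT
  set O := o2 (Fq X y {θ}) with hO
  have hfix : ∀ (r : R), ((r : W ≃ₗ[ZMod 2] W) ∈ Fq X y {θ}) → r • qm y θ = qm y θ := by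
    intro r hr
    rw [hsm, qm_eq]
    exact hr.2.2 θ rfl
  have hstab : ∀ (r : R), r • qm y θ = qm y θ → (r : W ≃ₗ[ZMod 2] W) ∈ Fq X y {θ} := by
    intro r hr
    rw [hsm, qm_eq] at hr
    exact ⟨hR r.2, hyR r r.2, by rintro v rfl; exact hr⟩
  have hD : ML.Final.Dat (C := R) (V := QM y) (T.subgroupOf R) (O.subgroupOf R) (B.subgroupOf R) (qm y θ) := by
    refine ⟨?_, h.two.of_equiv (subgroupOfEquivOfLe hT).symm, h.sylR hT hR, ?_, ?_, ?_, ?_, ?_, ?_⟩
    · intro v
      obtain ⟨w, rfl⟩ := qm_surj y v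
      rw [← qm_add, addself, qm_zero]
    · intro t ht
      exact hfix t (h.T_le_stb ht)
    · intro q hq
      obtain ⟨n, hn⟩ := isPGroup_o2 (Fq X y {θ}) ⟨q, hq⟩
      refine ⟨n, fun v => ?_⟩
      have h2 : (q : W ≃ₗ[ZMod 2] W) ^ 2 ^ n = 1 := congrArg Subtype.val hn
      have h1 : q ^ 2 ^ n = 1 := Subtype.ext h2
      rw [h1, one_smul]
    · intro q hq
      exact hfix q (o2_le _ hq)
    · intro g hg q hq
      have h1 := (mem_normalizer_iff.mp (le_normalizer_o2 (Fq X y {θ}) (hstab g hg)) (q : W ≃ₗ[ZMod 2] W)).mp hq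
      exact ⟨g * q * g⁻¹, h1, fun _ => rfl⟩
    · intro a ha
      exact ⟨a, hB ha, fun _ => rfl⟩
    · intro a ha v
      have h1 : a * a = 1 := Subtype.ext (hB2 _ ha)
      rw [← mul_smul, h1, one_smul]
  have hKR : IsKGroup R :=
    ML.Final.kgroup_of_surj h.known (R.subgroupOf X) (subgroupOfEquivOfLe hR).toMonoidHom
      (subgroupOfEquivOfLe hR).surjective
  have key := hML.act hKR hD
  set P := orb (⊤ : Subgroup R) (qm y θ) with hP
  -- the preimage of the orbit
  have hPW : ∀ w, qm y w ∈ P ↔ w ∈ WR R y θ := by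
    intro w
    constructor
    · intro hw
      let U : Subgroup (QM y) :=
        { carrier := {m | ∃ v ∈ WR R y θ, qm y v = m}
          one_mem' := ⟨0, zero_mem _, rfl⟩
          mul_mem' := by
            rintro _ _ ⟨v, hv, rfl⟩ ⟨v', hv', rfl⟩
            exact ⟨v + v', add_mem hv hv', rfl⟩
          inv_mem' := by
            rintro _ ⟨v, hv, rfl⟩
            exact ⟨-v, neg_mem hv, rfl⟩ }
      have h1 : P ≤ U := orb_le fun g _ => ⟨(g : W ≃ₗ[ZMod 2] W) θ, ap_mem_WR g.2, rfl⟩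
      obtain ⟨v, hv, hvw⟩ := h1 hw
      rcases qm_eq.mp hvw.symm with h2 | h2
      · rw [h2]; exact hv
      · rw [h2]; exact add_mem hv y_mem_WR
    · intro hw
      let U : Submodule (ZMod 2) W :=
        { carrier := {w | qm y w ∈ P}
          zero_mem' := by
            change qm y 0 ∈ P
            rw [qm_zero]; exact one_mem _
          add_mem' := fun {a c} ha hc => by
            change qm y (a + c) ∈ P
            rw [qm_add]; exact mul_mem ha hc
          smul_mem' := fun c w hw => by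
            change qm y (c • w) ∈ P
            rcases z2 c with rfl | rfl
            · rw [zero_smul, qm_zero]; exact one_mem _
            · rw [one_smul]; exact hw }
      have h1 : WR R y θ ≤ U := by
        refine WR_le ?_ fun r hr => ?_
        · change qm y y ∈ P
          have : qm y y = qm y 0 := qm_eq.mpr (Or.inr (by rw [zero_add]))
          rw [this, qm_zero]; exact one_mem _
        · exact smul_mem_orb_self (g := (⟨r, hr⟩ : R)) (mem_top _)
      exact h1 hw
  have hcard : ∀ (S : Submodule (ZMod 2) W) (C : Subgroup (QM y)), (∀ w, qm y w ∈ C ↔ w ∈ S) →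
      Nat.card S = 2 * Nat.card C := by
    intro S C hC
    choose s hs using qm_surj y
    let φ : Bool × C → S := fun p => ⟨s p.2.1 + (if p.1 then y else 0), by
      refine (hC _).mp ?_
      have : qm y (s p.2.1 + (if p.1 then y else 0)) = p.2.1 := by
        rw [← hs p.2.1]
        refine qm_eq.mpr ?_
        rw [hs]
        split_ifs
        · right; rfl
        · left; rw [add_zero]
      rw [this]; exact p.2.2⟩
    have hφ : Function.Bijective φ := by
      constructor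
      · rintro ⟨b, c⟩ ⟨b', c'⟩ hh
        have h1 : s c.1 + (if b then y else 0) = s c'.1 + (if b' then y else 0) := congrArg Subtype.val hh
        have h2 : c = c' := by
          apply Subtype.ext
          rw [← hs c.1, ← hs c'.1]
          refine qm_eq.mpr ?_
          have h3 : s c.1 = s c'.1 + ((if b' then y else 0) - (if b then y else 0)) := by
            rw [add_sub, ← h1]; abel
          rw [h3]
          split_ifs
          · left; simp
          · right; simp
          · right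
            rw [zero_sub]
            congr 1
            exact neg_eq_of_add_eq_zero_left (addself y)
          · left; simp
        subst h2
        have h3 := add_left_cancel h1
        cases b <;> cases b' <;> simp at h3 <;>
          first | rfl | exact absurd h3 h.base.y0 | exact absurd h3.symm h.base.y0
      · rintro ⟨w, hw⟩
        have h1 : qm y w ∈ C := (hC w).mpr hw
        have h2 := hs (qm y w)
        rcases qm_eq.mp h2 with h3 | h3
        · exact ⟨(false, ⟨_, h1⟩), Subtype.ext (by change s (qm y w) + _ = w; rw [h3]; simp)⟩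
        · refine ⟨(true, ⟨_, h1⟩), Subtype.ext ?_⟩
          change s (qm y w) + _ = w
          rw [h3]
          simp only [if_true]
          rw [add_assoc, addself, add_zero]
    rw [← Nat.card_eq_of_bijective φ hφ, Nat.card_prod]
    simp
  set C := Cfsg.Agent.ClassTwoFusion.Quad.cv (QM y) ((B.subgroupOf R : Subgroup R) : Set R) with hCdef
  have hCm : ∀ w, qm y w ∈ C ↔ w ∈ cms y B := by
    intro w
    constructor
    · intro h1 a ha
      have h2 : (⟨a, hBR ha⟩ : R) • qm y w = qm y w := h1 _ ha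
      rw [hsm, qm_eq] at h2
      exact h2
    · intro h1 a ha
      change a • qm y w = qm y w
      rw [hsm, qm_eq]
      exact h1 _ ha
  have c1 : Nat.card (WR R y θ) = 2 * Nat.card P := hcard _ _ hPW
  have c2 : Nat.card (WR R y θ ⊓ cms y B : Submodule (ZMod 2) W) = 2 * Nat.card (C ⊓ P : Subgroup (QM y)) := by
    refine hcard _ _ fun w => ?_
    rw [Subgroup.mem_inf, Submodule.mem_inf, hPW, hCm]
    exact And.comm
  -- the kernel
  have c3 : Nat.card (fxr R P ⊓ B.subgroupOf R : Subgroup R) =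
      Nat.card (B ⊓ Fq R y (WR R y θ) : Subgroup (W ≃ₗ[ZMod 2] W)) := by
    have h1 : fxr R P ⊓ B.subgroupOf R = (B ⊓ Fq R y (WR R y θ)).subgroupOf R := by
      ext x
      rw [Subgroup.mem_inf, mem_subgroupOf, mem_subgroupOf, Subgroup.mem_inf]
      constructor
      · rintro ⟨h1, h2⟩
        refine ⟨h2, x.2, hyR _ x.2, fun v hv => ?_⟩
        have h3 := h1 (qm y v) ((hPW v).mpr hv)
        rw [hsm, qm_eq] at h3
        exact h3
      · rintro ⟨h1, h2⟩
        refine ⟨fun m hm => ?_, h1⟩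
        obtain ⟨v, rfl⟩ := qm_surj y m
        rw [hsm, qm_eq]
        exact h2.2.2 v ((hPW v).mp hm)
    rw [h1]
    exact Nat.card_congr (subgroupOfEquivOfLe (inf_le_left.trans hBR)).toEquiv
  have c4 : Nat.card (B.subgroupOf R) = Nat.card B := Nat.card_congr (subgroupOfEquivOfLe hBR).toEquiv
  have r1 : (fxr R P).relIndex (B.subgroupOf R) * Nat.card (fxr R P ⊓ B.subgroupOf R : Subgroup R) =
      Nat.card (B.subgroupOf R) := by
    rw [← inf_relIndex_right, ri_card inf_le_right]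
  have r2 : C.relIndex P * Nat.card (C ⊓ P : Subgroup (QM y)) = Nat.card P := by
    rw [← inf_relIndex_right, ri_card inf_le_right]
  rw [c1, c2, ← c3, ← c4, ← r1]
  calc (fxr R P).relIndex (B.subgroupOf R) * Nat.card (fxr R P ⊓ B.subgroupOf R : Subgroup R) *
        (2 * Nat.card (C ⊓ P : Subgroup (QM y)))
      = (fxr R P).relIndex (B.subgroupOf R) * (Nat.card (fxr R P ⊓ B.subgroupOf R : Subgroup R) *
        (2 * Nat.card (C ⊓ P : Subgroup (QM y)))) := by ring
    _ ≤ C.relIndex P * (Nat.card (fxr R P ⊓ B.subgroupOf R : Subgroup R) *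
        (2 * Nat.card (C ⊓ P : Subgroup (QM y)))) := Nat.mul_le_mul_right _ key
    _ = Nat.card (fxr R P ⊓ B.subgroupOf R : Subgroup R) * (2 * (C.relIndex P * Nat.card (C ⊓ P : Subgroup (QM y)))) := by
        ring
    _ = _ := by rw [r2]

/-- **(NO)** -/
theorem no (hML : ML.Final.MLK.{u, u}) (hB : B ≤ o2 (Fq X y {θ})) (hB2 : ∀ b ∈ B, b * b = 1) :
    Nat.card B * Nat.card (cms y B) ≤ Nat.card W := by
  have h1 := h.nor hML h.TX le_rfl hB hB2
  rw [h.WR_top, h.Fq_top, inf_bot_eq, Subgroup.card_bot, one_mul, top_inf_eq] at h1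
  have h2 : Nat.card (⊤ : Submodule (ZMod 2) W) = Nat.card W := Nat.card_congr (Equiv.Set.univ W)
  rwa [h2] at h1

/-- **(U)** for `U = ⟨λ^R⟩` and an atom which moves `⟨λ^R⟩` -/
theorem u_eq (hML : ML.Final.MLK.{u, u}) (hT : T ≤ R) (hR : R ≤ X) (g : Good X y θ B) (hn : ¬ B ≤ Fq R y (WR R y θ)) :
    B ⊓ Fq R y (WR R y θ) = ⊥ ∧ WR R y θ ⊔ cms y B = ⊤ ∧
      Nat.card B * Nat.card (WR R y θ ⊓ cms y B : Submodule (ZMod 2) W) = Nat.card (WR R y θ) := by
  have hfin : Finite (W ≃ₗ[ZMod 2] W) := DFunLike.finite _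
  set U := WR R y θ with hU
  set D := B ⊓ Fq R y U with hD
  have h1 := h.nor hML hT hR g.BO g.sq
  have h2 := h.no hML (B := D) (inf_le_left.trans g.BO) fun b hb => g.sq b hb.1
  have h3 : U ⊔ cms y B ≤ cms y D :=
    sup_le (fun v hv d hd => hd.2.2.2 v hv) fun v hv d hd => hv d hd.1
  have h4 := card_sup_inf U (cms y B)
  have h5 : Nat.card (U ⊔ cms y B : Submodule (ZMod 2) W) ≤ Nat.card (cms y D) :=
    Nat.card_le_card_of_injective _ (Submodule.inclusion_injective h3)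
  have h6 : Nat.card B * Nat.card (cms y B) = Nat.card W := g.atom.ex
  have p1 : 0 < Nat.card B := Nat.card_pos
  have p2 : 0 < Nat.card U := Nat.card_pos
  have p3 : 0 < Nat.card (U ⊓ cms y B : Submodule (ZMod 2) W) := Nat.card_pos
  have p4 : 0 < Nat.card D := Nat.card_pos
  have p5 : 0 < Nat.card (cms y D) := Nat.card_pos
  have p6 : 0 < Nat.card W := Nat.card_pos
  rw [← hU, ← hD] at h1
  -- `|D| |C(D)| = |W|`
  have e1 : Nat.card W * Nat.card U ≤ Nat.card D * Nat.card (cms y D) * Nat.card U := by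
    calc Nat.card W * Nat.card U = Nat.card B * (Nat.card U * Nat.card (cms y B)) := by rw [← h6]; ring
      _ = Nat.card B * (Nat.card (U ⊔ cms y B : Submodule (ZMod 2) W) *
          Nat.card (U ⊓ cms y B : Submodule (ZMod 2) W)) := by rw [h4]
      _ = Nat.card (U ⊔ cms y B : Submodule (ZMod 2) W) *
          (Nat.card B * Nat.card (U ⊓ cms y B : Submodule (ZMod 2) W)) := by ring
      _ ≤ Nat.card (cms y D) * (Nat.card D * Nat.card U) := Nat.mul_le_mul h5 h1
      _ = Nat.card D * Nat.card (cms y D) * Nat.card U := by ring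
  have e2 : Nat.card D * Nat.card (cms y D) = Nat.card W :=
    le_antisymm h2 (Nat.le_of_mul_le_mul_right e1 p2)
  have e3 : D = ⊥ := by
    by_contra hne
    have h7 := g.atom.min D inf_le_left hne e2
    exact hn (by rw [← h7]; exact inf_le_right)
  have e4 : Nat.card D = 1 := by rw [e3]; exact Subgroup.card_bot
  have e5 : Nat.card (cms y D) = Nat.card W := by rw [e4, one_mul] at e2; exact e2
  rw [e4, one_mul] at h1
  have e6 : Nat.card W * Nat.card (U ⊓ cms y B : Submodule (ZMod 2) W) * Nat.card B ≤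
      Nat.card (U ⊔ cms y B : Submodule (ZMod 2) W) * Nat.card (U ⊓ cms y B : Submodule (ZMod 2) W) * Nat.card B := by
    rw [h4]
    calc Nat.card W * Nat.card (U ⊓ cms y B : Submodule (ZMod 2) W) * Nat.card B
        = Nat.card W * (Nat.card B * Nat.card (U ⊓ cms y B : Submodule (ZMod 2) W)) := by ring
      _ ≤ Nat.card W * Nat.card U := Nat.mul_le_mul_left _ h1
      _ = _ := by rw [← h6]; ring
  have e7 : Nat.card W ≤ Nat.card (U ⊔ cms y B : Submodule (ZMod 2) W) :=
    Nat.le_of_mul_le_mul_right (Nat.le_of_mul_le_mul_right e6 p1) p3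
  have e8 : Nat.card (U ⊔ cms y B : Submodule (ZMod 2) W) = Nat.card W :=
    le_antisymm (Nat.card_le_card_of_injective _ (Submodule.injective_subtype _)) e7
  refine ⟨e3, ?_, ?_⟩
  · have h8 : Nat.card (⊤ : Submodule (ZMod 2) W) = Nat.card W := Nat.card_congr (Equiv.Set.univ W)
    exact eq_of_le_card le_top (by rw [h8, e8])
  · refine Nat.eq_of_mul_eq_mul_right (Nat.card_pos (α := cms y B)) ?_
    rw [← h4, e8, ← h6]
    ring

end St

end Cfsg.Agent.Omega.FOne.ThmA
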