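import Cfsg.Agent.Omega.FOne.ThmA.ToFs
import Cfsg.Agent.Omega.FOne.ThmR.PlugA

/-!
# (F1'), `ToFs` from (ML) : THEOREM A (helper425) and the REDUCTION
-/

set_option autoImplicit false

namespace Cfsg.Agent.Omega.FOne.ThmA

universe u

/-- **`ToFs`** -/
theorem toFs (hML : ML.Final.MLK.{u, u}) : Glue.ToFs.{u} := toFs_of hML (ThmR.thA hML)

end Cfsg.Agent.Omega.FOne.ThmA
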