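import Cfsg.Agent.Omega.FOne.ThmA.RedSec

/-!
# (F1'), the REDUCTION (helper297 #20655): a minimal situation, in which all atoms are low
-/

set_option autoImplicit false
set_option linter.unusedSectionVars false

namespace Cfsg.Agent.Omega.FOne.ThmA

open Subgroup Cfsg Cfsg.Agent.ZN
open Cfsg.Agent.Omega.FOne.Tvw (Base z2 addself ap_inv inv_ap)
open Cfsg.Agent.Omega.FOne.NOv

universe u

section

variable {W : Type u} [AddCommGroup W] [Module (ZMod 2) W] [Finite W] {X R T B : Subgroup (W ≃ₗ[ZMod 2] W)} {y θ : W}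

/-- one step of the reduction -/
theorem St.step (hML : ML.Final.MLK.{u, u}) (hA : ThA.{u}) (h : St X y θ T) (hT : T ≤ R) (hR : R ≤ X) (hRX : R ≠ X)
    (g : Good X y θ B) (hn : ¬ B ≤ Fq R y (WR R y θ)) :
    ∃ (W' : Type u) (_ : AddCommGroup W') (_ : Module (ZMod 2) W') (_ : Finite W') (X' : Subgroup (W' ≃ₗ[ZMod 2] W'))
      (y' θ' : W') (T' B' : Subgroup (W' ≃ₗ[ZMod 2] W')), St X' y' θ' T' ∧ Good X' y' θ' B' ∧
        Nat.card X' < Nat.card X := by
  have hfin : Finite (W ≃ₗ[ZMod 2] W) := DFunLike.finite _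
  -- a minimal overgroup
  let S : Set (Subgroup (W ≃ₗ[ZMod 2] W)) :=
    {R' | T ≤ R' ∧ R' ≤ R ∧ ∃ B, Good X y θ B ∧ ¬ B ≤ Fq R' y (WR R' y θ)}
  obtain ⟨R₁, hR₁⟩ := (Set.toFinite S).exists_minimal ⟨R, hT, le_rfl, B, g, hn⟩
  obtain ⟨⟨hT1, hR1, B₁, g₁, hn₁⟩, hmin⟩ := hR₁
  have hR1X : R₁ ≤ X := hR1.trans hR
  obtain ⟨u1, u2, u3⟩ := h.u_eq hML hT1 hR1X g₁ hn₁
  have ha := h.step_a hT1 hR1X g₁ hn₁ fun R' h1 h2 h3 => by
    by_contra h4
    exact h3 (le_antisymm h2 (hmin ⟨h1, h2.trans hR1, B₁, g₁, h4⟩ h2))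
  have hBR : B₁ ≤ R₁ := (g₁.BO.trans h.o2_stb_le).trans hT1
  obtain ⟨θn, b1, b2, b3⟩ := h.step_b hT1 hR1X hBR ha
  have hA1 := hA W X R₁ y θ T B₁ h hT1 hR1X g₁ u1 u2 u3
  have hk : θn ∈ cw (Fq R₁ y (WR R₁ y θ)) :=
    b3 _ (fun k hk => hk.2.1) fun l hl v hv k hk => hA1 k hk l hl v hv
  have p : Stp X R₁ y θ θn T B₁ := ⟨h, hT1, hR1X, g₁, u1, u2, b1, b2, hk⟩
  refine ⟨WR R₁ y θn, inferInstance, inferInstance, inferInstance, p.X', p.y', p.θ', p.im T, p.im B₁, p.st', p.good', ?_⟩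
  refine lt_of_le_of_lt p.card_X' ?_
  have h1 : R₁ < X := lt_of_le_of_lt hR1 (lt_of_le_of_ne hR hRX)
  exact Set.ncard_lt_ncard (SetLike.coe_ssubset_coe.mpr h1) (Set.toFinite _)

/-- **the minimal situation** -/
theorem exists_min (hML : ML.Final.MLK.{u, u}) (hA : ThA.{u}) (n : ℕ) :
    ∀ (W : Type u) [AddCommGroup W] [Module (ZMod 2) W] [Finite W] (X : Subgroup (W ≃ₗ[ZMod 2] W)) (y θ : W)
      (T B : Subgroup (W ≃ₗ[ZMod 2] W)), Nat.card X = n → St X y θ T → Good X y θ B →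
      ∃ (W' : Type u) (_ : AddCommGroup W') (_ : Module (ZMod 2) W') (_ : Finite W')
        (X' : Subgroup (W' ≃ₗ[ZMod 2] W')) (y' θ' : W') (T' B' : Subgroup (W' ≃ₗ[ZMod 2] W')),
        St X' y' θ' T' ∧ Good X' y' θ' B' ∧ LA X' y' θ' T' := by
  induction n using Nat.strong_induction_on with
  | _ n ih =>
    intro W _ _ _ X y θ T B hn st g
    by_cases hLA : LA X y θ T
    · exact ⟨W, inferInstance, inferInstance, inferInstance, X, y, θ, T, B, st, g, hLA⟩
    · simp only [LA, not_forall] at hLA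
      obtain ⟨B₁, g₁, R, hT, hR, hRX, hlow⟩ := hLA
      have h1 : ¬ B₁ ≤ Fq R y (WR R y θ) := fun h2 => hlow ⟨st.low_of hT hR g₁ h2, h2⟩
      obtain ⟨W', i1, i2, i3, X', y', θ', T', B', st', g', hlt⟩ := st.step hML hA hT hR hRX g₁ h1
      exact ih _ (hn ▸ hlt) W' X' y' θ' T' B' rfl st' g'

/-- the minimal situation is a faithful section in the sense of helper854 -/
theorem fs_of (st : St X y θ T) (g : Good X y θ B) (la : LA X y θ T) : Glue.Fs X y θ T B where
  known := st.known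
  base := st.base
  TX := st.TX
  two := st.two
  syl := st.syl
  fixT := st.fixT
  θ0 := st.θ0
  θy := st.θy
  Tθ := st.Tθ
  swap := by
    by_contra hcon
    push Not at hcon
    rcases st.fixT θ fun t ht => (st.Tθ t ht).resolve_right (hcon t ht) with h1 | h1
    · exact st.θ0 h1
    · exact st.θy h1
  gen := st.gen
  BT := g.BO.trans st.o2_stb_le
  sq := g.sq
  quadM := g.quadM
  atom := g.atom
  four := g.four
  low := fun R hT hR hRX => (la B g R hT hR hRX).1

end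

section start

variable {W : Type u} [AddCommGroup W] [Module (ZMod 2) W] [Finite W] {H T N A B : Subgroup (W ≃ₗ[ZMod 2] W)} {y : W}
  {L : Submodule (ZMod 2) W}

/-- the situation of `AtomTwo` -/
theorem start (s : Sw H y T N L) (a : Ax y N A) (hBA : B ≤ A) (hB : MAtom y B) (h2 : Nat.card B ≠ 2) :
    ∃ θ, St H y θ T ∧ Good H y θ B := by
  classical
  have hfin : Finite (W ≃ₗ[ZMod 2] W) := DFunLike.finite _
  obtain ⟨θ, hθ, θ0, θy⟩ : ∃ l ∈ L, l ≠ 0 ∧ l ≠ y := by
    by_contra hcon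
    push Not at hcon
    have h1 : (L : Set W) ⊆ (({0, y} : Finset W) : Set W) := by
      intro v hv
      by_cases h0 : v = 0
      · simp [h0]
      · simp [hcon v hv h0]
    have h2 := Set.ncard_le_ncard h1 (Finset.finite_toSet _)
    rw [Set.ncard_coe_finset] at h2
    have h3 : (L : Set W).ncard = 4 := s.card
    have h4 := Finset.card_le_two (a := (0 : W)) (b := y)
    omega
  have hL := fun {u : W} (hu : u ∈ L) => mem_L s.card s.yL s.base.y0 hθ θ0 θy hu
  have hfix : ∀ x ∈ H, x y = y := s.base.fix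
  have hst : ∀ x ∈ H, x θ ∈ L → x θ = θ ∨ x θ = θ + y := by
    intro x hx hxL
    rcases hL hxL with h1 | h1 | h1 | h1
    · exact absurd (x.injective (h1.trans (map_zero x).symm)) θ0
    · exact absurd (x.injective (h1.trans (hfix x hx).symm)) θy
    · exact Or.inl h1
    · exact Or.inr h1
  refine ⟨θ, ⟨s.known, s.base, s.TH, s.two, s.syl, s.fixT, θ0, θy, fun t ht => hst t (s.TH ht) (s.TL t ht θ hθ),
    fun U hy hU => s.gen U fun h hh v hv => ?_⟩, ⟨?_, fun b hb => a.sq b (hBA hb), fun c hc d hd w =>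
      Or.inl (a.quad c (hBA hc) d (hBA hd) w), hB, ?_⟩⟩
  · rcases hL hv with rfl | rfl | rfl | rfl
    · rw [map_zero]; exact zero_mem _
    · rw [hfix h hh]; exact hy
    · exact hU h hh
    · rw [map_add, hfix h hh]; exact add_mem (hU h hh) hy
  · refine (hBA.trans a.AN).trans (le_o2 ?_ s.N2 ?_)
    · intro n hn
      refine ⟨s.NH hn, hfix n (s.NH hn), ?_⟩
      rintro v rfl
      left; exact s.NL n hn v hθ
    · have key : ∀ x ∈ Fq H y {θ}, ∀ n ∈ N, x * n * x⁻¹ ∈ N := by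
        rintro x ⟨hx, hxy, hxθ⟩ n hn
        refine s.Nn x hx (fun v hv => ?_) n hn
        have h3 : x θ ∈ L := by
          rcases hxθ θ rfl with h1 | h1 <;> rw [h1]
          · exact hθ
          · exact add_mem hθ s.yL
        rcases hL hv with rfl | rfl | rfl | rfl
        · rw [map_zero]; exact zero_mem _
        · rw [hxy]; exact hv
        · exact h3
        · rw [map_add, hxy]; exact add_mem h3 s.yL
      intro x hx
      rw [mem_normalizer_iff]
      intro n
      constructor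
      · exact fun hn => key x hx n hn
      · intro hn
        have h1 := key _ (inv_mem hx) _ hn
        have h2 : x⁻¹ * (x * n * x⁻¹) * x⁻¹⁻¹ = n := by group
        rwa [h2] at h1
  · have hB2 : IsPGroup 2 B := s.N2.to_le (hBA.trans a.AN)
    obtain ⟨k, hk⟩ := (IsPGroup.iff_card.mp hB2)
    have hk0 : k ≠ 0 := by
      rintro rfl
      exact hB.ne (Subgroup.card_eq_one.mp (by rw [hk, pow_zero]))
    have hk1 : k ≠ 1 := by
      rintro rfl
      exact h2 (by rw [hk, pow_one])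
    rw [hk]
    calc 4 = 2 ^ 2 := by norm_num
      _ ≤ 2 ^ k := Nat.pow_le_pow_right (by norm_num) (by omega)

/-- **THE REDUCTION**: an atom of order at least 4 gives a faithful section in which all atoms are low -/
theorem reduction (hML : ML.Final.MLK.{u, u}) (hA : ThA.{u}) (s : Sw H y T N L) (a : Ax y N A) (hBA : B ≤ A)
    (hB : MAtom y B) (h2 : Nat.card B ≠ 2) :
    ∃ (W' : Type u) (_ : AddCommGroup W') (_ : Module (ZMod 2) W') (_ : Finite W')
      (X' : Subgroup (W' ≃ₗ[ZMod 2] W')) (y' θ' : W') (T' B' : Subgroup (W' ≃ₗ[ZMod 2] W')),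
      Glue.Fs X' y' θ' T' B' ∧ Good X' y' θ' B' ∧ LA X' y' θ' T' := by
  obtain ⟨θ, st, g⟩ := start s a hBA hB h2
  obtain ⟨W', i1, i2, i3, X', y', θ', T', B', st', g', la⟩ := exists_min hML hA _ W H y θ T B rfl st g
  exact ⟨W', i1, i2, i3, X', y', θ', T', B', fs_of st' g' la, g', la⟩

end start

end Cfsg.Agent.Omega.FOne.ThmA
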