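import Cfsg.Agent.Omega.FOne.ThmA.Form

/-!
# THEOREM A (helper297 #20655): counting: `|K| = |B|`, `M = S + C_M(B)`, `B` is a full root group on `V`
-/

set_option autoImplicit false
set_option linter.unusedSectionVars false

namespace Cfsg.Agent.Omega.FOne.ThmA

open Subgroup
open Cfsg.Agent.Omega.FOne.Tvw (z2 addself z2add eq_of_add_eq_zero')
open Cfsg.Agent.Omega.FOne.NOv.TrA (ap_mul ap_one inv_ap ap_inv)

universe u

theorem card_dual {E : Type*} [AddCommGroup E] [Module (ZMod 2) E] [Finite E] :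
    Nat.card (Module.Dual (ZMod 2) E) = Nat.card E := by
  rw [Module.natCard_eq_pow_finrank (K := ZMod 2) (V := Module.Dual (ZMod 2) E),
    Module.natCard_eq_pow_finrank (K := ZMod 2) (V := E), Subspace.dual_finrank_eq]

theorem card_comap_sur {S V : Type*} [AddCommGroup S] [Module (ZMod 2) S] [Finite S] [AddCommGroup V]
    [Module (ZMod 2) V] [Finite V] (p : S →ₗ[ZMod 2] V) (ps : Function.Surjective p) (W : Submodule (ZMod 2) V) :
    Nat.card (W.comap p) = Nat.card W * Nat.card (LinearMap.ker p) := by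
  let g : W.comap p →ₗ[ZMod 2] V := p.comp (W.comap p).subtype
  have h2 := LinearMap.finrank_range_add_finrank_ker g
  have h3 : LinearMap.range g = W := by
    ext x
    constructor
    · rintro ⟨⟨v, hv⟩, rfl⟩
      exact hv
    · intro hx
      obtain ⟨v, rfl⟩ := ps x
      exact ⟨⟨v, hx⟩, rfl⟩
  have h4 : Module.finrank (ZMod 2) (LinearMap.ker g) = Module.finrank (ZMod 2) (LinearMap.ker p) := by
    refine LinearEquiv.finrank_eq (LinearEquiv.ofBijective
      ({ toFun := fun x => ⟨x.1.1, x.2⟩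
         map_add' := fun _ _ => rfl
         map_smul' := fun _ _ => rfl } : LinearMap.ker g →ₗ[ZMod 2] LinearMap.ker p) ⟨?_, ?_⟩)
    · intro a b hab
      have h5 := congrArg (fun t : LinearMap.ker p => (t : S)) hab
      exact Subtype.ext (Subtype.ext h5)
    · rintro ⟨v, hv⟩
      refine ⟨⟨⟨v, ?_⟩, hv⟩, rfl⟩
      rw [Submodule.mem_comap, LinearMap.mem_ker.mp hv]
      exact W.zero_mem
  rw [h3, h4] at h2
  rw [Module.natCard_eq_pow_finrank (K := ZMod 2) (V := W.comap p),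
    Module.natCard_eq_pow_finrank (K := ZMod 2) (V := W),
    Module.natCard_eq_pow_finrank (K := ZMod 2) (V := LinearMap.ker p), ← pow_add, h2]

theorem card_sur {S V : Type*} [AddCommGroup S] [Module (ZMod 2) S] [Finite S] [AddCommGroup V]
    [Module (ZMod 2) V] [Finite V] (p : S →ₗ[ZMod 2] V) (ps : Function.Surjective p) :
    Nat.card S = Nat.card V * Nat.card (LinearMap.ker p) := by
  have h1 := card_comap_sur p ps ⊤
  rwa [Submodule.comap_top, Nat.card_congr (Equiv.subtypeUnivEquiv (p := (· ∈ (⊤ : Submodule (ZMod 2) S)))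
    fun _ => trivial), Nat.card_congr (Equiv.subtypeUnivEquiv (p := (· ∈ (⊤ : Submodule (ZMod 2) V)))
    fun _ => trivial)] at h1

theorem card_lt {K V : Type*} [Field K] [Finite K] [AddCommGroup V] [Module K V] [Finite V] {W : Submodule K V}
    (hW : W ≠ ⊤) : Nat.card K * Nat.card W ≤ Nat.card V := by
  have h1 : Module.finrank K W < Module.finrank K V := Submodule.finrank_lt hW
  rw [Module.natCard_eq_pow_finrank (K := K) (V := W), Module.natCard_eq_pow_finrank (K := K) (V := V), ← pow_succ']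
  exact Nat.pow_le_pow_right Nat.card_pos h1

variable {Γ : Type*} {M : Type u} [Group Γ] [AddCommGroup M] [Module (ZMod 2) M]
variable {ρ : Γ →* Module.End (ZMod 2) M} {B L N : Subgroup Γ} {X : Submodule (ZMod 2) M} {Φ : Γ → M → ZMod 2}

namespace Fd

variable [Finite Γ] [Finite M] (h : Fr ρ B L N X Φ) {Y1 : Subgroup Γ} {m0 : M} {V : Type u} [AddCommGroup V]
  [Module (ZMod 2) V] [Finite V] {q : Γ → V} {K : Type u} [Field K] [Finite K] [Module K V]
  {f : V →ₗ[ZMod 2] Module.Dual (ZMod 2) V} {s : Γ → V →ₗ[ZMod 2] V} {t : M →+ K}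
  (D : Fd ρ B L X Φ Y1 m0 q f s t)
include h D

theorem fz {x : V} (hx : ∀ y, f x y = 0) : x = 0 := by
  obtain ⟨u, hu, rfl⟩ := D.sur x
  rw [D.zero u hu]
  exact D.mn.ce_of h D.ne hu fun r hr => by rw [← D.fq u hu r hr, hx]

theorem feq {x x' : V} (hx : ∀ y, f x y = f x' y) : x = x' := by
  rw [← sub_eq_zero]
  refine D.fz h fun y => ?_
  rw [map_sub, LinearMap.sub_apply, hx, sub_self]

theorem fsymm (x y : V) : f x y = f y x := by
  obtain ⟨u, hu, rfl⟩ := D.sur x
  obtain ⟨r, hr, rfl⟩ := D.sur y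
  rw [D.fq u hu r hr, D.fq r hr u hu, D.mn.symm h hu hr]

omit h in
theorem s_mul {l l' : Γ} (hl : l ∈ L) (hl' : l' ∈ L) (x : V) : s (l * l') x = s l (s l' x) := by
  obtain ⟨u, hu, rfl⟩ := D.sur x
  rw [D.sl _ (L.mul_mem hl hl') u hu, D.sl l' hl' u hu, D.sl l hl _ (D.mn.inv l' hl' u hu)]
  congr 1; group

omit h in
theorem s_one (x : V) : s 1 x = x := by
  obtain ⟨u, hu, rfl⟩ := D.sur x
  rw [D.sl _ L.one_mem u hu]
  congr 1; group

omit h in
theorem s_inv {l : Γ} (hl : l ∈ L) (x : V) : s l⁻¹ (s l x) = x := by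
  rw [← D.s_mul (L.inv_mem hl) hl, inv_mul_cancel, D.s_one]

omit h in
theorem s_inv' {l : Γ} (hl : l ∈ L) (x : V) : s l (s l⁻¹ x) = x := by
  rw [← D.s_mul hl (L.inv_mem hl), mul_inv_cancel, D.s_one]

theorem fs {l : Γ} (hl : l ∈ L) (x y : V) : f (s l x) (s l y) = f x y := by
  have n := D.mn
  obtain ⟨u, hu, rfl⟩ := D.sur x
  obtain ⟨r, hr, rfl⟩ := D.sur y
  rw [D.sl l hl u hu, D.sl l hl r hr, D.fq _ (n.inv l hl u hu) _ (n.inv l hl r hr), D.fq u hu r hr,
    h.d_conj (n.le hu) hl, h.pinv r (n.le hr).1 (n.le hr).2 l hl _ (h.dX (n.le hu) m0)]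

theorem fs' {l : Γ} (hl : l ∈ L) (x y : V) : f (s l x) y = f x (s l⁻¹ y) := by
  rw [← D.fs h (L.inv_mem hl) (s l x) y, D.s_inv hl]

theorem ftk (m : M) (x y : V) : f (t m • x) y = f x (t m • y) := by
  obtain ⟨u, hu, rfl⟩ := D.sur x
  obtain ⟨r, hr, rfl⟩ := D.sur y
  rw [D.tq m u hu r hr, D.fsymm h, D.tq m r hr u hu, D.mn.symm h hu hr]

/-- `s b x + x` for `x = q(u)` -/
theorem q_z {u b : Γ} (hu : u ∈ Y1) (hb : b ∈ L) : q (u * (b * u * b⁻¹)) = s b (q u) + q u := by
  rw [D.mul u hu _ (D.mn.inv b hb u hu), D.sl b hb u hu, add_comm]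

theorem sym_b {b : Γ} (hb : b ∈ B) (x y : V) : f (s b x + x) y = f x (s b y + y) := by
  rw [map_add, LinearMap.add_apply, map_add, D.fs' h (h.BL hb), h.inv hb]

theorem q_conj {u l : Γ} (hu : u ∈ Y1) (hl : l ∈ L) (hf : ρ l (dl ρ u m0) = dl ρ u m0) : s l (q u) = q u := by
  have n := D.mn
  refine D.feq h fun y => ?_
  obtain ⟨r, hr, rfl⟩ := D.sur y
  rw [D.sl l hl u hu, D.fq _ (n.inv l hl u hu) r hr, D.fq u hu r hr, h.d_conj (n.le hu) hl, hf]

theorem quadr {b b' : Γ} (hb : b ∈ B) (hb' : b' ∈ B) (x : V) : s b' (s b x + x) = s b x + x := by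
  obtain ⟨u, hu, rfl⟩ := D.sur x
  have n := D.mn
  rw [← D.q_z h hu (h.BL hb)]
  refine D.q_conj h (n.z_mem h hu (h.BL hb)) (h.BL hb') ?_
  rw [h.d_z (n.le hu) (h.BL hb)]
  exact dl_eq_zero.mp (h.dq hb hb' _)

/-- `B` is faithful on `V` -/
theorem faith {b : Γ} (hb : b ∈ B) (hf : ∀ x, s b x = x) : b = 1 := by
  obtain ⟨u, hu, hm, -⟩ := D.toQt.exists_mv h
  refine D.toQt.q_z h hu hm hb ?_
  rw [D.q_z h hu (h.BL hb), hf]
  exact addself _

/-- the decomposition -/
theorem dec {u0 : Γ} (hu0 : u0 ∈ Y1) (hm : Mv ρ B u0) (x : V) :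
    ∃ m, ∀ b ∈ B, s b x + x = t m • (s b (q u0) + q u0) := by
  have n := D.mn
  obtain ⟨r, hr, rfl⟩ := D.sur x
  obtain ⟨-, h2⟩ := h.two (n.le hu0) hm
  obtain ⟨m, w, hw, e⟩ := h2 (dl ρ r m0)
  refine ⟨m, fun b hb => ?_⟩
  have hbL := h.BL hb
  refine D.feq h fun y => ?_
  obtain ⟨r', hr', rfl⟩ := D.sur y
  rw [← D.q_z h hr hbL, ← D.q_z h hu0 hbL, D.fq _ (n.z_mem h hr hbL) r' hr',
    D.tq m _ (n.z_mem h hu0 hbL) r' hr', h.d_z (n.le hr) hbL, h.d_z (n.le hu0) hbL, e, map_add,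
    dl_eq_zero.mpr (hw b hb), add_zero]

/-- `K` has characteristic 2 -/
theorem char2 (k : K) : k + k = 0 := by
  obtain ⟨u, hu, -, hq⟩ := D.toQt.exists_mv h
  have h1 : (k + k) • q u = 0 := by rw [add_smul]; exact addself _
  rcases smul_eq_zero.mp h1 with h2 | h2
  · exact h2
  · exact absurd h2 hq

/-- the fixed points of `B` on `V` -/
def WB : Submodule K V where
  carrier := {x | ∀ b ∈ B, s b x = x}
  zero_mem' := fun b _ => map_zero _
  add_mem' := fun hx hy b hb => by rw [map_add, hx b hb, hy b hb]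
  smul_mem' := fun k x hx b hb => by rw [D.sk b (h.BL hb), hx b hb]

theorem mem_WB {x : V} : x ∈ D.WB h ↔ ∀ b ∈ B, s b x = x := Iff.rfl

theorem e0_notMem {u0 : Γ} (hu0 : u0 ∈ Y1) (hm : Mv ρ B u0) : q u0 ∉ D.WB h := by
  intro hW
  obtain ⟨b, hb, m, hbm⟩ := id hm
  have : b = 1 := by
    refine D.toQt.q_z h hu0 hm hb ?_
    rw [D.q_z h hu0 (h.BL hb), hW b hb]
    exact addself _
  apply hbm
  rw [this]
  exact dl_eq_zero.mpr (ap_one ρ _)

/-- **`|B| ≤ |t(M)|`** -/
theorem card_le_range : Nat.card B ≤ Nat.card t.range := by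
  classical
  have n := D.mn
  obtain ⟨u0, hu0, hm, -⟩ := D.toQt.exists_mv h
  let iK : Module (ZMod 2) K := AddCommGroup.zmodModule (fun k => by rw [two_nsmul]; exact D.char2 h k)
  let t' : M →ₗ[ZMod 2] K := t.toZModLinearMap 2
  have ht' : ∀ m, t' m = t m := fun m => rfl
  have hcard : Nat.card t.range = Nat.card (LinearMap.range t') := by
    refine Nat.card_congr (Equiv.subtypeEquivRight fun x => ?_)
    rw [AddMonoidHom.mem_range, LinearMap.mem_range]
    rfl
  have hsm : ∀ (c : ZMod 2) (k : K) (x : V), (c • k) • x = c • (k • x) := by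
    intro c k x
    rcases z2 c with rfl | rfl
    · rw [zero_smul, zero_smul, zero_smul]
    · rw [one_smul, one_smul]
  let κ : B → Module.Dual (ZMod 2) (LinearMap.range t') := fun b =>
    { toFun := fun τ => f ((τ : K) • q u0) (q (u0 * ((b : Γ) * u0 * (b : Γ)⁻¹)))
      map_add' := fun τ τ' => by
        rw [Submodule.coe_add, add_smul, map_add f, LinearMap.add_apply]
      map_smul' := fun c τ => by
        rw [Submodule.coe_smul, hsm, map_smul f, LinearMap.smul_apply, RingHom.id_apply] }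
  have hfE : Finite (Module.Dual (ZMod 2) (LinearMap.range t')) := DFunLike.finite _
  rw [hcard, ← card_dual (E := LinearMap.range t')]
  refine Nat.card_le_card_of_injective κ ?_
  intro b b' e
  -- `b b' = 1`
  have hbb : (b : Γ) * (b' : Γ) = 1 := by
    by_contra hne
    have hbb' : (b : Γ) * (b' : Γ) ∈ B := B.mul_mem b.2 b'.2
    obtain ⟨v, hv, hne'⟩ := h.sep (n.le hu0) hm hbb' hne
    obtain ⟨-, h2⟩ := h.two (n.le hu0) hm
    obtain ⟨m, w, hw, rfl⟩ := h2 v
    apply hne'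
    have hz := h.zmul (n.le hu0) b.2 b'.2
    have hz1 := n.z_mem h hu0 (h.BL b.2)
    have hz2 := n.z_mem h hu0 (h.BL b'.2)
    rw [map_add, dl_eq_zero.mpr (hw _ hbb'), add_zero, ← h.d_z (n.le hu0) (h.BL hbb'),
      h.pc (h.z_mem (n.le hu0) (h.BL hbb')) (n.le hu0), hz]
    have e1 := congrArg (fun g : Module.Dual (ZMod 2) (LinearMap.range t') => g ⟨t' m, m, rfl⟩) e
    change f (t m • q u0) (q _) = f (t m • q u0) (q _) at e1
    rw [D.tq m u0 hu0 _ hz1, D.tq m u0 hu0 _ hz2] at e1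
    have h3 := n.le hz1
    have h4 := n.le hz2
    rw [h.pmul _ h3.1 h3.2 _ h4.1 h4.2 _ (h.dX (n.le hu0) m), e1]
    exact z2add _
  have h1 : (b : Γ) = (b' : Γ)⁻¹ := eq_inv_of_mul_eq_one_left hbb
  rw [h.inv b'.2] at h1
  exact Subtype.ext h1

/-- the output of the counting -/
theorem count {p : Sm h D.mn m0 →ₗ[ZMod 2] V} (ps : Function.Surjective p)
    (pq : ∀ u (hu : u ∈ Y1), q u = p ⟨dl ρ u m0, u, hu, rfl⟩) :
    Function.Surjective t ∧ Nat.card K = Nat.card B ∧ Sm h D.mn m0 ⊔ cv ρ B = ⊤ ∧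
      ∀ v : Sm h D.mn m0, (∀ b ∈ B, s b (p v) = p v) → (v : M) ∈ cv ρ B := by
  classical
  obtain ⟨u0, hu0, hm, -⟩ := D.toQt.exists_mv h
  have hWB := D.e0_notMem h hu0 hm
  -- the fixed points of `B` on `S`
  let C : Submodule (ZMod 2) (Sm h D.mn m0) := (cv ρ B).comap (Sm h D.mn m0).subtype
  let W : Submodule (ZMod 2) V :=
    { carrier := {x | ∀ b ∈ B, s b x = x}
      zero_mem' := fun b _ => map_zero _
      add_mem' := fun hx hy b hb => by rw [map_add, hx b hb, hy b hb]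
      smul_mem' := fun c x hx b hb => by rw [map_smul, hx b hb] }
  have hcW : Nat.card W = Nat.card (D.WB h) := Nat.card_congr (Equiv.subtypeEquivRight fun x => Iff.rfl)
  have hCW : C ≤ W.comap p := by
    rintro ⟨_, u, hu, rfl⟩ hv b hb
    rw [← pq u hu]
    exact D.q_conj h hu (h.BL hb) (hv b hb)
  have c1 : Nat.card C = Nat.card (Sm h D.mn m0 ⊓ cv ρ B : Submodule (ZMod 2) M) := by
    refine Nat.card_congr
      { toFun := fun x => ⟨x.1.1, x.1.2, x.2⟩
        invFun := fun x => ⟨⟨x.1, x.2.1⟩, x.2.2⟩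
        left_inv := fun x => rfl
        right_inv := fun x => rfl }
  have c2 := card_comap_sur p ps W
  have c3 := card_sur p ps
  have c4 : Nat.card K * Nat.card W ≤ Nat.card V := by
    rw [hcW]
    refine card_lt fun e => hWB ?_
    rw [e]; trivial
  have c5 : Nat.card C ≤ Nat.card (W.comap p) :=
    Nat.card_le_card_of_injective (Submodule.inclusion hCW) (Submodule.inclusion_injective hCW)
  obtain ⟨c6, c7⟩ := h.U_le (Sm h D.mn m0)
  rw [← c1] at c6 c7
  have c8 := D.card_le_range h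
  have c9 : Nat.card t.range ≤ Nat.card K := Nat.card_le_card_of_injective _ Subtype.val_injective
  set nS := Nat.card (Sm h D.mn m0)
  set nk := Nat.card (LinearMap.ker p) with hnk
  set nD := Nat.card (cb ρ B (Sm h D.mn m0)) with hnD
  have pk : 0 < nk := Nat.card_pos
  have pW : 0 < Nat.card W := Nat.card_pos
  have pD : 0 < nD := Nat.card_pos
  have pS : 0 < nS := Nat.card_pos
  have pB : 0 < Nat.card B := Nat.card_pos
  have pC : 0 < Nat.card C := Nat.card_pos
  -- `|K| |W| |ker| ≤ |S| ≤ |B| |C| ≤ |B| |W| |ker|`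
  have a1 : Nat.card K * (Nat.card W * nk) ≤ nS := by
    rw [c3, ← mul_assoc]; exact Nat.mul_le_mul_right _ c4
  have a2 : nS ≤ nD * nS := Nat.le_mul_of_pos_left _ pD
  have a3 : Nat.card B * Nat.card C ≤ Nat.card B * (Nat.card W * nk) := by
    rw [← c2]; exact Nat.mul_le_mul_left _ c5
  have a4 : Nat.card K ≤ Nat.card B :=
    Nat.le_of_mul_le_mul_right ((a1.trans a2).trans (c6.trans a3)) (Nat.mul_pos pW pk)
  have a5 : Nat.card K = Nat.card B := le_antisymm a4 (c8.trans c9)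
  rw [← a5] at a3 c6 c7 c8
  have a6 : nS = Nat.card K * Nat.card C := le_antisymm (a2.trans c6) (a3.trans a1)
  have a7 : Nat.card K * (Nat.card W * nk) ≤ Nat.card K * Nat.card C := a1.trans a6.le
  have a8 : Nat.card (W.comap p) ≤ Nat.card C := by
    rw [c2]; exact Nat.le_of_mul_le_mul_left a7 Nat.card_pos
  have a9 : C.toAddSubgroup = (W.comap p).toAddSubgroup :=
    AddSubgroup.eq_of_le_of_card_ge hCW a8
  refine ⟨?_, a5, ?_, fun v hv => ?_⟩
  · rw [← AddMonoidHom.range_eq_top]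
    exact AddSubgroup.eq_top_of_le_card _ c8
  · rcases c7 (by rw [← a6]; exact a2) with ⟨-, h1⟩ | h1
    · exact h1
    · exfalso
      have h2 : nD = Nat.card K := by rw [hnD, h1, a5]
      have h3 : nD * nS ≤ nS := by rw [← a6] at c6; exact c6
      have h4 : nD ≤ 1 := by
        by_contra hlt
        push Not at hlt
        have : 2 * nS ≤ nD * nS := Nat.mul_le_mul_right _ hlt
        omega
      rw [h2] at h4
      have h5 : Nat.card K ≠ 1 := by
        have : Nontrivial K := inferInstance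
        exact Finite.one_lt_card.ne'
      have h6 : 0 < Nat.card K := Nat.card_pos
      omega
  · have h1 : v ∈ C.toAddSubgroup := by rw [a9]; exact hv
    exact h1

end Fd

end Cfsg.Agent.Omega.FOne.ThmA
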