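import Cfsg.Agent.Omega.FOne.ThmA.Min
import Cfsg.Agent.Omega.NO1.Comp.Field

/-!
# THEOREM A (helper297 #20655): the quotient `V` of `Y₁`, its forms and its field
-/

set_option autoImplicit false
set_option linter.unusedSectionVars false

namespace Cfsg.Agent.Omega.FOne.ThmA

open Subgroup
open Cfsg.Agent.Omega.FOne.Tvw (z2 addself z2add eq_of_add_eq_zero')
open Cfsg.Agent.Omega.FOne.NOv.TrA (ap_mul ap_one inv_ap ap_inv)

universe u

/-- a homomorphism on `Y₁` that is trivial on `ker q` gives a linear map on `V` -/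
theorem exists_lift {Γ V A : Type*} [Group Γ] [AddCommGroup V] [Module (ZMod 2) V] [AddCommGroup A]
    [Module (ZMod 2) A] {Y1 : Subgroup Γ} {q : Γ → V} (qm : ∀ u ∈ Y1, ∀ u' ∈ Y1, q (u * u') = q u + q u')
    (qs : ∀ x, ∃ u ∈ Y1, q u = x) (F : Γ → A) (Fm : ∀ u ∈ Y1, ∀ u' ∈ Y1, F (u * u') = F u + F u')
    (F0 : ∀ u ∈ Y1, q u = 0 → F u = 0) : ∃ f : V →ₗ[ZMod 2] A, ∀ u ∈ Y1, f (q u) = F u := by
  have wd : ∀ u ∈ Y1, ∀ u' ∈ Y1, q u = q u' → F u = F u' := by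
    intro u hu u' hu' e
    have h1 : F (u * u') = 0 := F0 _ (mul_mem hu hu') (by rw [qm u hu u' hu', e]; exact addself _)
    rw [Fm u hu u' hu'] at h1
    exact eq_of_add_eq_zero' h1
  choose g hg hq using qs
  refine ⟨{ toFun := fun x => F (g x), map_add' := fun x y => ?_, map_smul' := fun c x => ?_ }, fun u hu => ?_⟩
  · rw [← Fm _ (hg x) _ (hg y)]
    exact wd _ (hg _) _ (mul_mem (hg x) (hg y)) (by rw [hq, qm _ (hg x) _ (hg y), hq, hq])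
  · rcases z2 c with rfl | rfl
    · rw [RingHom.id_apply, zero_smul, zero_smul]
      exact F0 _ (hg 0) (hq 0)
    · rw [RingHom.id_apply, one_smul, one_smul]
  · exact wd _ (hg _) _ hu (hq _)

variable {Γ : Type*} {M : Type u} [Group Γ] [AddCommGroup M] [Module (ZMod 2) M]

/-- the quotient `V` of `Y₁` -/
structure Qt (ρ : Γ →* Module.End (ZMod 2) M) (B L : Subgroup Γ) (X : Submodule (ZMod 2) M) (Φ : Γ → M → ZMod 2)
    (Y1 : Subgroup Γ) (m0 : M) {V : Type u} [AddCommGroup V] [Module (ZMod 2) V] (q : Γ → V) : Prop where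
  mn : Mn ρ B L X Y1
  ne : ∃ u ∈ Y1, ∃ r ∈ Y1, Φ r (dl ρ u m0) ≠ 0
  mul : ∀ u ∈ Y1, ∀ u' ∈ Y1, q (u * u') = q u + q u'
  sur : ∀ x, ∃ u ∈ Y1, q u = x
  zero : ∀ u ∈ Y1, q u = 0 ↔ Ce ρ B L u

variable {ρ : Γ →* Module.End (ZMod 2) M} {B L N : Subgroup Γ} {X : Submodule (ZMod 2) M} {Φ : Γ → M → ZMod 2}

/-- `S = [m₀, Y₁]` -/
def Sm [Finite Γ] [Finite M] (h : Fr ρ B L N X Φ) {Y1 : Subgroup Γ} (n : Mn ρ B L X Y1) (m0 : M) :
    Submodule (ZMod 2) M where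
  carrier := {v | ∃ u ∈ Y1, dl ρ u m0 = v}
  zero_mem' := ⟨1, Y1.one_mem, dl_eq_zero.mpr (ap_one ρ m0)⟩
  add_mem' := by
    rintro _ _ ⟨u, hu, rfl⟩ ⟨u', hu', rfl⟩
    exact ⟨u * u', mul_mem hu hu', h.d_mul (n.le hu) (n.le hu') m0⟩
  smul_mem' := by
    rintro c _ ⟨u, hu, rfl⟩
    rcases z2 c with rfl | rfl
    · exact ⟨1, Y1.one_mem, by rw [zero_smul]; exact dl_eq_zero.mpr (ap_one ρ m0)⟩
    · exact ⟨u, hu, by rw [one_smul]⟩

section

variable [Finite Γ] [Finite M] (h : Fr ρ B L N X Φ) {Y1 : Subgroup Γ} (n : Mn ρ B L X Y1) {m0 : M}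

theorem mem_Sm {v : M} : v ∈ Sm h n m0 ↔ ∃ u ∈ Y1, dl ρ u m0 = v := Iff.rfl

theorem Sm_le : Sm h n m0 ≤ X := by
  rintro _ ⟨u, hu, rfl⟩
  exact h.dX (n.le hu) m0

theorem Sm_inv {l : Γ} (hl : l ∈ L) {v : M} (hv : v ∈ Sm h n m0) : ρ l v ∈ Sm h n m0 := by
  obtain ⟨u, hu, rfl⟩ := hv
  exact ⟨_, n.inv l hl u hu, h.d_conj (n.le hu) hl m0⟩

/-- **the quotient** -/
theorem exists_qt (hm0 : ∃ u ∈ Y1, ∃ r ∈ Y1, Φ r (dl ρ u m0) ≠ 0) :
    ∃ (V : Type u) (_ : AddCommGroup V) (_ : Module (ZMod 2) V) (_ : Finite V) (q : Γ → V)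
      (p : Sm h n m0 →ₗ[ZMod 2] V), Qt ρ B L X Φ Y1 m0 q ∧ Function.Surjective p ∧
      ∀ u (hu : u ∈ Y1), q u = p ⟨dl ρ u m0, u, hu, rfl⟩ := by
  classical
  let Z : Submodule (ZMod 2) (Sm h n m0) :=
    { carrier := {v | ∀ g ∈ L1 B L, ρ g v = v}
      zero_mem' := fun g _ => map_zero _
      add_mem' := fun {v w} hv hw g hg => by
        rw [Submodule.coe_add, map_add, hv g hg, hw g hg]
      smul_mem' := fun c v hv g hg => by
        rw [Submodule.coe_smul, map_smul, hv g hg] }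
  let q : Γ → (Sm h n m0 ⧸ Z) := fun u => if hu : u ∈ Y1 then Z.mkQ ⟨dl ρ u m0, u, hu, rfl⟩ else 0
  have hq : ∀ u (hu : u ∈ Y1), q u = Z.mkQ ⟨dl ρ u m0, u, hu, rfl⟩ := fun u hu => dif_pos hu
  refine ⟨Sm h n m0 ⧸ Z, inferInstance, inferInstance, Finite.of_surjective _ Z.mkQ_surjective, q, Z.mkQ, ?_,
    Z.mkQ_surjective, hq⟩
  refine ⟨n, hm0, fun u hu u' hu' => ?_, fun x => ?_, fun u hu => ?_⟩
  · rw [hq _ (mul_mem hu hu'), hq u hu, hq u' hu', ← map_add]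
    congr 1
    exact Subtype.ext (h.d_mul (n.le hu) (n.le hu') m0)
  · obtain ⟨⟨v, u, hu, rfl⟩, rfl⟩ := Z.mkQ_surjective x
    exact ⟨u, hu, hq u hu⟩
  · rw [hq u hu, Submodule.mkQ_apply, Submodule.Quotient.mk_eq_zero, n.ce_iff h hm0 hu]
    rfl

end

namespace Qt

variable [Finite Γ] [Finite M] (h : Fr ρ B L N X Φ) {Y1 : Subgroup Γ} {m0 : M} {V : Type u} [AddCommGroup V]
  [Module (ZMod 2) V] {q : Γ → V} (Q : Qt ρ B L X Φ Y1 m0 q)
include h Q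

/-- the form `f_m` -/
theorem exists_form (m : M) : ∃ f : V →ₗ[ZMod 2] Module.Dual (ZMod 2) V,
    ∀ u ∈ Y1, ∀ r ∈ Y1, f (q u) (q r) = Φ r (dl ρ u m) := by
  classical
  have n := Q.mn
  have h1 : ∀ u ∈ Y1, ∃ g : Module.Dual (ZMod 2) V, ∀ r ∈ Y1, g (q r) = Φ r (dl ρ u m) := by
    intro u hu
    refine exists_lift Q.mul Q.sur (fun r => Φ r (dl ρ u m)) (fun r hr r' hr' => ?_) fun r hr h0 => ?_
    · have a := n.le hr
      have b := n.le hr'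
      exact h.pmul r a.1 a.2 r' b.1 b.2 _ (h.dX (n.le hu) m)
    · exact n.p_ce' h hu hr ((Q.zero r hr).mp h0) m
  choose! g hg using h1
  refine exists_lift Q.mul Q.sur g (fun u hu u' hu' => ?_) (fun u hu h0 => ?_) |>.imp fun f hf u hu r hr => ?_
  · ext x
    obtain ⟨r, hr, rfl⟩ := Q.sur x
    have hr' := n.le hr
    rw [LinearMap.add_apply, hg _ (mul_mem hu hu') r hr, hg u hu r hr, hg u' hu' r hr,
      h.d_mul (n.le hu) (n.le hu'), h.padd r hr'.1 hr'.2 _ (h.dX (n.le hu) m) _ (h.dX (n.le hu') m)]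
  · ext x
    obtain ⟨r, hr, rfl⟩ := Q.sur x
    rw [hg u hu r hr, LinearMap.zero_apply]
    exact n.p_ce h hu hr ((Q.zero u hu).mp h0) m
  · rw [hf u hu, hg u hu r hr]

omit [Finite Γ] [Finite M] in
theorem ce_conj {u l : Γ} (hu : u ∈ Y1) (hl : l ∈ L) (hc : Ce ρ B L u) : Ce ρ B L (l * u * l⁻¹) := by
  intro g hg m
  have n := Q.mn
  have h1 : l⁻¹ * g * l ∈ L1 B L := by
    have := L1_conj (B := B) (L := L) (L.inv_mem hl) hg
    rwa [inv_inv] at this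
  rw [h.d_conj (n.le hu) hl]
  have h2 := hc _ h1 m
  rw [ap_mul, ap_mul] at h2
  have h3 := congrArg (ρ l) h2
  rwa [ap_inv] at h3

theorem exists_s {l : Γ} (hl : l ∈ L) : ∃ s : V →ₗ[ZMod 2] V, ∀ u ∈ Y1, s (q u) = q (l * u * l⁻¹) := by
  have n := Q.mn
  refine exists_lift Q.mul Q.sur (fun u => q (l * u * l⁻¹)) (fun u hu u' hu' => ?_) fun u hu h0 => ?_
  · have e : l * (u * u') * l⁻¹ = (l * u * l⁻¹) * (l * u' * l⁻¹) := by group
    rw [e, Q.mul _ (n.inv l hl u hu) _ (n.inv l hl u' hu')]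
  · rw [Q.zero _ (n.inv l hl u hu)]
    exact Q.ce_conj h hu hl ((Q.zero u hu).mp h0)

omit h in
theorem q_one : q 1 = 0 := by
  have h1 := Q.mul 1 Y1.one_mem 1 Y1.one_mem
  rw [mul_one] at h1
  exact left_eq_add.mp h1

theorem q_inv {u : Γ} (hu : u ∈ Y1) : q u⁻¹ = q u := by rw [h.uinv (Q.mn.le hu)]

/-- an element moved by `B` is not in the kernel, nor are its commutators -/
theorem q_z {u b : Γ} (hu : u ∈ Y1) (hm : Mv ρ B u) (hb : b ∈ B) (hz : q (u * (b * u * b⁻¹)) = 0) : b = 1 :=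
  h.z_one (Q.mn.le hu) hm hb ((Q.zero _ (Q.mn.z_mem h hu (h.BL hb))).mp hz)

theorem exists_mv : ∃ u ∈ Y1, Mv ρ B u ∧ q u ≠ 0 := by
  obtain ⟨u, hu, hm⟩ := Q.mn.mv
  refine ⟨u, hu, hm, fun h0 => ?_⟩
  obtain ⟨b, hb, m, hbm⟩ := hm
  apply hbm
  rw [dl_eq_zero]
  exact (Q.zero u hu).mp h0 b (B_le_L1 hb) m

/-- irreducibility -/
theorem irr (W : AddSubgroup V) (hW : ∀ l ∈ L, ∀ u ∈ Y1, q u ∈ W → q (l * u * l⁻¹) ∈ W) : W = ⊥ ∨ W = ⊤ := by
  have n := Q.mn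
  let Y' : Subgroup Γ :=
    { carrier := {u | u ∈ Y1 ∧ q u ∈ W}
      one_mem' := ⟨Y1.one_mem, by rw [Q.q_one]; exact W.zero_mem⟩
      mul_mem' := fun {a b} ha hb => ⟨mul_mem ha.1 hb.1, by rw [Q.mul a ha.1 b hb.1]; exact W.add_mem ha.2 hb.2⟩
      inv_mem' := fun {a} ha => ⟨inv_mem ha.1, by rw [Q.q_inv h ha.1]; exact ha.2⟩ }
  by_cases hY : Y' = Y1
  · right
    rw [eq_top_iff]
    intro x _
    obtain ⟨u, hu, rfl⟩ := Q.sur x
    rw [← hY] at hu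
    exact hu.2
  · left
    rw [eq_bot_iff]
    intro x hx
    obtain ⟨u, hu, rfl⟩ := Q.sur x
    rw [AddSubgroup.mem_bot, Q.zero u hu]
    exact n.cent h (Y' := Y') (fun u hu => hu.1) (fun l hl u hu => ⟨n.inv l hl u hu.1, hW l hl u hu.1 hu.2⟩) hY ⟨hu, hx⟩

end Qt

/-- the field `K` of the irreducible `L`-module `V` -/
structure Fd (ρ : Γ →* Module.End (ZMod 2) M) (B L : Subgroup Γ) (X : Submodule (ZMod 2) M) (Φ : Γ → M → ZMod 2)
    (Y1 : Subgroup Γ) (m0 : M) {V : Type u} [AddCommGroup V] [Module (ZMod 2) V] (q : Γ → V) {K : Type u} [Field K]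
    [Module K V] (f : V →ₗ[ZMod 2] Module.Dual (ZMod 2) V) (s : Γ → V →ₗ[ZMod 2] V) (t : M →+ K) : Prop
    extends Qt ρ B L X Φ Y1 m0 q where
  fq : ∀ u ∈ Y1, ∀ r ∈ Y1, f (q u) (q r) = Φ r (dl ρ u m0)
  sl : ∀ l ∈ L, ∀ u ∈ Y1, s l (q u) = q (l * u * l⁻¹)
  sk : ∀ l ∈ L, ∀ (k : K) (x : V), s l (k • x) = k • s l x
  t0 : t m0 = 1
  tq : ∀ m, ∀ u ∈ Y1, ∀ r ∈ Y1, f (t m • q u) (q r) = Φ r (dl ρ u m)

theorem Qt.exists_fd [Finite Γ] [Finite M] (h : Fr ρ B L N X Φ) {Y1 : Subgroup Γ} {m0 : M} {V : Type u}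
    [AddCommGroup V] [Module (ZMod 2) V] [Finite V] {q : Γ → V} (Q : Qt ρ B L X Φ Y1 m0 q) :
    ∃ (K : Type u) (_ : Field K) (_ : Finite K) (_ : Module K V) (f : V →ₗ[ZMod 2] Module.Dual (ZMod 2) V)
      (s : Γ → V →ₗ[ZMod 2] V) (t : M →+ K), Fd ρ B L X Φ Y1 m0 q f s t := by
  classical
  have n := Q.mn
  obtain ⟨f, hf⟩ := Q.exists_form h m0
  have hs : ∀ l, ∃ s : V →ₗ[ZMod 2] V, l ∈ L → ∀ u ∈ Y1, s (q u) = q (l * u * l⁻¹) := by
    intro l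
    by_cases hl : l ∈ L
    · obtain ⟨s, hs⟩ := Q.exists_s h hl
      exact ⟨s, fun _ => hs⟩
    · exact ⟨0, fun h => absurd h hl⟩
  choose s hs using hs
  have hnt : Nontrivial V := by
    obtain ⟨u, hu, -, hq⟩ := Q.exists_mv h
    exact ⟨⟨q u, 0, hq⟩⟩
  obtain ⟨K, iK, iF, iM, c1, c2, -⟩ := NO1.Comp.exists_field (V := V)
    {g : AddMonoid.End V | ∃ l ∈ L, ∀ x, g x = s l x} (by
      intro W hW
      refine Q.irr h W fun l hl u hu hq => ?_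
      rw [← hs l hl u hu]
      exact hW (s l).toAddMonoidHom ⟨l, hl, fun x => rfl⟩ _ hq)
  have c1' : ∀ l ∈ L, ∀ (k : K) (x : V), s l (k • x) = k • s l x := by
    intro l hl k x
    exact c1 (s l).toAddMonoidHom ⟨l, hl, fun x => rfl⟩ k x
  -- the form is non-degenerate
  have finj : Function.Injective f := by
    rw [injective_iff_map_eq_zero]
    intro x hx
    obtain ⟨u, hu, rfl⟩ := Q.sur x
    rw [Q.zero u hu]
    refine n.ce_of h Q.ne hu fun r hr => ?_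
    rw [← hf u hu r hr, hx]; rfl
  have fsur : Function.Surjective f :=
    (LinearMap.injective_iff_surjective_of_finrank_eq_finrank Subspace.dual_finrank_eq.symm).mp finj
  have hT : ∀ m, ∃ k : K, ∀ u ∈ Y1, ∀ r ∈ Y1, f (k • q u) (q r) = Φ r (dl ρ u m) := by
    intro m
    obtain ⟨g, hg⟩ := Q.exists_form h m
    choose T hT using fun x => fsur (g x)
    have Tadd : ∀ x y, T (x + y) = T x + T y := fun x y => finj (by rw [map_add, hT, hT, hT, map_add])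
    obtain ⟨k, hk⟩ := c2 ⟨⟨T, finj (by rw [hT, map_zero, map_zero])⟩, Tadd⟩ (by
      rintro σ ⟨l, hl, hσ⟩ x
      change T (σ x) = σ (T x)
      rw [hσ, hσ]
      apply finj
      rw [hT]
      obtain ⟨u, hu, rfl⟩ := Q.sur x
      obtain ⟨u', hu', e⟩ := Q.sur (T (q u))
      ext y
      obtain ⟨r, hr, rfl⟩ := Q.sur y
      have r1 := n.inv _ (L.inv_mem hl) r hr
      have hr2 : r = l * (l⁻¹ * r * l⁻¹⁻¹) * l⁻¹ := by group
      have e1 : g (q u) (q (l⁻¹ * r * l⁻¹⁻¹)) = f (T (q u)) (q (l⁻¹ * r * l⁻¹⁻¹)) := by rw [hT]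
      rw [hg u hu _ r1, ← e, hf u' hu' _ r1] at e1
      rw [← e, hs l hl u hu, hs l hl u' hu', hg _ (n.inv l hl u hu) r hr, hf _ (n.inv l hl u' hu') r hr,
        h.d_conj (n.le hu) hl, h.d_conj (n.le hu') hl, hr2,
        h.pinv _ (n.le r1).1 (n.le r1).2 l hl _ (h.dX (n.le hu) m),
        h.pinv _ (n.le r1).1 (n.le r1).2 l hl _ (h.dX (n.le hu') m0)]
      exact e1)
    have hk' : ∀ x, T x = k • x := hk
    refine ⟨k, fun u hu r hr => ?_⟩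
    rw [← hg u hu r hr, ← hk', hT]
  choose t ht using hT
  have huniq : ∀ k k' : K, (∀ u ∈ Y1, ∀ r ∈ Y1, f (k • q u) (q r) = f (k' • q u) (q r)) → k = k' := by
    intro k k' e
    obtain ⟨u, hu, -, hq⟩ := Q.exists_mv h
    have h1 : k • q u = k' • q u := by
      apply finj
      ext y
      obtain ⟨r, hr, rfl⟩ := Q.sur y
      exact e u hu r hr
    have h2 : (k - k') • q u = 0 := by rw [sub_smul, h1, sub_self]
    rcases smul_eq_zero.mp h2 with h3 | h3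
    · exact sub_eq_zero.mp h3
    · exact absurd h3 hq
  refine ⟨K, iK, iF, iM, f, s, ⟨⟨t, ?_⟩, ?_⟩, ⟨Q, hf, hs, c1', ?_, ht⟩⟩
  · refine huniq _ _ fun u hu r hr => ?_
    rw [ht 0 u hu r hr, map_zero, zero_smul, map_zero, LinearMap.zero_apply]
    exact h.pzero (n.le hr)
  · intro m m'
    refine huniq _ _ fun u hu r hr => ?_
    have hr' := n.le hr
    change f (t (m + m') • q u) (q r) = f ((t m + t m') • q u) (q r)
    rw [ht _ u hu r hr, add_smul, map_add f, LinearMap.add_apply, ht m u hu r hr, ht m' u hu r hr, map_add,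
      h.padd r hr'.1 hr'.2 _ (h.dX (n.le hu) m) _ (h.dX (n.le hu) m')]
  · refine huniq _ _ fun u hu r hr => ?_
    change f (t m0 • q u) (q r) = f ((1 : K) • q u) (q r)
    rw [ht m0 u hu r hr, one_smul, hf u hu r hr]

end Cfsg.Agent.Omega.FOne.ThmA
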