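import Cfsg.Agent.Omega.FOne.ThmA.Base

/-!
# THEOREM A (helper297 #20655): the minimal `L`-submodule `Y₁` of `Y` moved by `B`
-/

set_option autoImplicit false
set_option linter.unusedSectionVars false

namespace Cfsg.Agent.Omega.FOne.ThmA

open Subgroup
open Cfsg.Agent.Omega.FOne.Tvw (z2 addself z2add eq_of_add_eq_zero')
open Cfsg.Agent.Omega.FOne.NOv.TrA (ap_mul ap_one inv_ap ap_inv)

universe u

variable {Γ : Type*} {M : Type u} [Group Γ] [AddCommGroup M] [Module (ZMod 2) M]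

/-- a minimal `L`-invariant subgroup of `Y` moved by `B` -/
structure Mn (ρ : Γ →* Module.End (ZMod 2) M) (B L : Subgroup Γ) (X : Submodule (ZMod 2) M) (Y1 : Subgroup Γ) :
    Prop where
  le : Y1 ≤ YY ρ L X
  inv : ∀ l ∈ L, ∀ u ∈ Y1, l * u * l⁻¹ ∈ Y1
  mv : ∃ u ∈ Y1, Mv ρ B u
  min : ∀ Y' ≤ Y1, (∀ l ∈ L, ∀ u ∈ Y', l * u * l⁻¹ ∈ Y') → (∃ u ∈ Y', Mv ρ B u) → Y' = Y1

/-- `u` is centralised by `L₁` -/
def Ce (ρ : Γ →* Module.End (ZMod 2) M) (B L : Subgroup Γ) (u : Γ) : Prop :=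
  ∀ g ∈ L1 B L, ∀ m, ρ g (dl ρ u m) = dl ρ u m

variable {ρ : Γ →* Module.End (ZMod 2) M} {B L N : Subgroup Γ} {X : Submodule (ZMod 2) M} {Φ : Γ → M → ZMod 2}

theorem Fr.exists_mn [Finite Γ] [Finite M] (h : Fr ρ B L N X Φ) : ∃ Y1, Mn ρ B L X Y1 := by
  have hne : {Y' : Subgroup Γ | Y' ≤ YY ρ L X ∧ (∀ l ∈ L, ∀ u ∈ Y', l * u * l⁻¹ ∈ Y') ∧
      ∃ u ∈ Y', Mv ρ B u}.Nonempty := by
    refine ⟨YY ρ L X, le_rfl, fun l hl u hu => h.conj hu hl, ?_⟩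
    obtain ⟨u, hu1, hu2, b, hb, v, hv, hne⟩ := h.mv
    have hu : u ∈ YY ρ L X := ⟨hu1, hu2⟩
    refine ⟨u, hu, ?_⟩
    by_contra hm
    simp only [Mv, not_exists, not_and, not_not] at hm
    have hbL := h.BL hb
    have h1 : u * (b * u * b⁻¹) = 1 := by
      refine h.ext fun m => ?_
      rw [ap_one, ← dl_eq_zero, h.d_z hu hbL]
      exact hm b hb m
    have h2 := h.pmul u hu.1 hu.2 _ (h.conj hu hbL).1 (h.conj hu hbL).2 v hv
    have h3 : Φ 1 v = 0 := by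
      have := h.pmul 1 L.one_mem (fun v _ => ap_one ρ v) 1 L.one_mem (fun v _ => ap_one ρ v) v hv
      rw [mul_one] at this
      rcases z2 (Φ 1 v) with a | a
      · exact a
      · rw [a] at this; exact absurd this (by decide)
    rw [h1, h3, h.pconj hu hbL hv, h.inv hb, ← h.padd u hu.1 hu.2 _ hv _ (h.LX hbL hv), add_comm] at h2
    exact hne h2.symm
  obtain ⟨Y1, hY1⟩ := (Set.toFinite {Y' : Subgroup Γ | Y' ≤ YY ρ L X ∧ (∀ l ∈ L, ∀ u ∈ Y', l * u * l⁻¹ ∈ Y') ∧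
      ∃ u ∈ Y', Mv ρ B u}).exists_minimal hne
  obtain ⟨h1, h2, h3⟩ := hY1.prop
  exact ⟨Y1, h1, h2, h3, fun Y' hle hinv hmv =>
    le_antisymm hle (hY1.le_of_le ⟨hle.trans h1, hinv, hmv⟩ hle)⟩

namespace Mn

variable [Finite Γ] [Finite M] (h : Fr ρ B L N X Φ) {Y1 : Subgroup Γ} (n : Mn ρ B L X Y1)
include h n

/-- proper `L`-invariant subgroups are centralised by `L₁` -/
theorem cent {Y' : Subgroup Γ} (hle : Y' ≤ Y1) (hinv : ∀ l ∈ L, ∀ u ∈ Y', l * u * l⁻¹ ∈ Y') (hne : Y' ≠ Y1)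
    {u : Γ} (hu : u ∈ Y') : Ce ρ B L u := by
  intro g hg m
  refine h.cent_of (n.le (hle hu)) (fun l hl hm => hne ?_) hg m
  exact n.min Y' hle hinv ⟨_, hinv l hl u hu, hm⟩

theorem z_mem {u b : Γ} (hu : u ∈ Y1) (hb : b ∈ L) : u * (b * u * b⁻¹) ∈ Y1 := mul_mem hu (n.inv b hb u hu)

/-- `Y₁ = [Y₁, L₁]` -/
theorem gen : closure {x | ∃ u ∈ Y1, ∃ g ∈ L1 B L, u * (g * u * g⁻¹) = x} = Y1 := by
  set Y2 := closure {x | ∃ u ∈ Y1, ∃ g ∈ L1 B L, u * (g * u * g⁻¹) = x} with hY2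
  have hLB := L1_le h.BL
  have hle : Y2 ≤ Y1 := by
    rw [hY2, closure_le]
    rintro _ ⟨u, hu, g, hg, rfl⟩
    exact n.z_mem h hu (hLB hg)
  by_contra hne
  have hinv : ∀ l ∈ L, ∀ u ∈ Y2, l * u * l⁻¹ ∈ Y2 := by
    intro l hl u hu
    induction hu using closure_induction with
    | mem x hx =>
      obtain ⟨u, hu, g, hg, rfl⟩ := hx
      refine subset_closure ⟨_, n.inv l hl u hu, _, L1_conj hl hg, ?_⟩
      group
    | one => rw [mul_one, mul_inv_cancel]; exact one_mem _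
    | mul x y _ _ hx hy =>
      have : l * (x * y) * l⁻¹ = (l * x * l⁻¹) * (l * y * l⁻¹) := by group
      rw [this]; exact mul_mem hx hy
    | inv x _ hx =>
      have : l * x⁻¹ * l⁻¹ = (l * x * l⁻¹)⁻¹ := by group
      rw [this]; exact inv_mem hx
  obtain ⟨u, hu, hm⟩ := n.mv
  obtain ⟨b, hb, m, hbm⟩ := hm
  have h1 : b = 1 := h.z_one (n.le hu) ⟨b, hb, m, hbm⟩ hb (n.cent h hle hinv hne
    (subset_closure ⟨u, hu, b, B_le_L1 hb, rfl⟩))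
  apply hbm
  rw [h1]
  exact dl_eq_zero.mpr (ap_one ρ _)

/-- **(α)** `Φ(Y₁)` is trivial on the vectors fixed by `L₁` -/
theorem p_fix {r : Γ} (hr : r ∈ Y1) {c : M} (hc : c ∈ X) (hf : ∀ g ∈ L1 B L, ρ g c = c) : Φ r c = 0 := by
  have hLB := L1_le h.BL
  have key : ∀ r ∈ closure {x | ∃ u ∈ Y1, ∃ g ∈ L1 B L, u * (g * u * g⁻¹) = x}, Φ r c = 0 := by
    intro r hr
    have hsub : closure {x | ∃ u ∈ Y1, ∃ g ∈ L1 B L, u * (g * u * g⁻¹) = x} ≤ Y1 := (n.gen h).le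
    induction hr using closure_induction with
    | mem x hx =>
      obtain ⟨u, hu, g, hg, rfl⟩ := hx
      have hu' := n.le hu
      rw [h.pmul u hu'.1 hu'.2 _ (h.conj hu' (hLB hg)).1 (h.conj hu' (hLB hg)).2 c hc, h.pconj hu' (hLB hg) hc,
        hf _ (inv_mem hg)]
      exact z2add _
    | one =>
      have := h.pmul 1 L.one_mem (fun v _ => ap_one ρ v) 1 L.one_mem (fun v _ => ap_one ρ v) c hc
      rw [mul_one] at this
      rcases z2 (Φ 1 c) with a | a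
      · exact a
      · rw [a] at this; exact absurd this (by decide)
    | mul x y hx hy hx' hy' =>
      have h1 := n.le (hsub hx)
      have h2 := n.le (hsub hy)
      rw [h.pmul x h1.1 h1.2 y h2.1 h2.2 c hc, hx', hy', add_zero]
    | inv x hx hx' =>
      rw [h.uinv (n.le (hsub hx))]; exact hx'
  rw [n.gen h] at key
  exact key r hr

/-- **(β)** -/
theorem le_L1 : Y1 ≤ L1 B L := by
  have hLB := L1_le h.BL
  rw [← n.gen h, closure_le]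
  rintro _ ⟨u, hu, g, hg, rfl⟩
  have h1 : u * (g * u * g⁻¹) = (u * g * u⁻¹) * g⁻¹ := by rw [h.uinv (n.le hu)]; group
  rw [h1]
  exact mul_mem (L1_conj (n.le hu).1 hg) (inv_mem hg)

/-- some form `f_m` is not zero -/
theorem exists_m : ∃ m, ∃ u ∈ Y1, ∃ r ∈ Y1, Φ r (dl ρ u m) ≠ 0 := by
  obtain ⟨u, hu, hm⟩ := n.mv
  have hm' := hm
  obtain ⟨b, hb, m1, hbm⟩ := hm
  have hb1 : b ≠ 1 := by
    rintro rfl
    exact hbm (dl_eq_zero.mpr (ap_one ρ _))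
  obtain ⟨v, hv, hne⟩ := h.sep (n.le hu) hm' hb hb1
  obtain ⟨-, h2⟩ := h.two (n.le hu) hm'
  obtain ⟨m, w, hw, rfl⟩ := h2 v
  have e : dl ρ b (dl ρ u m + w) = dl ρ (u * (b * u * b⁻¹)) m := by
    rw [h.d_z (n.le hu) (h.BL hb), map_add, dl_eq_zero.mpr (hw b hb), add_zero]
  rw [e] at hne
  exact ⟨m, _, n.z_mem h hu (h.BL hb), u, hu, hne⟩

/-- the radical of a non-zero form is centralised by `L₁` -/
theorem ce_of {m0 : M} (hm0 : ∃ u ∈ Y1, ∃ r ∈ Y1, Φ r (dl ρ u m0) ≠ 0) {u : Γ} (hu : u ∈ Y1)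
    (h0 : ∀ r ∈ Y1, Φ r (dl ρ u m0) = 0) : Ce ρ B L u := by
  let C : Subgroup Γ :=
    { carrier := {u | u ∈ Y1 ∧ ∀ r ∈ Y1, Φ r (dl ρ u m0) = 0}
      one_mem' := ⟨Y1.one_mem, fun r hr => by
        have : dl ρ (1 : Γ) m0 = 0 := dl_eq_zero.mpr (ap_one ρ m0)
        rw [this]
        exact h.pzero (n.le hr)⟩
      mul_mem' := by
        rintro x y ⟨hx, hx1⟩ ⟨hy, hy1⟩
        refine ⟨mul_mem hx hy, fun r hr => ?_⟩
        have hr' := n.le hr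
        rw [h.d_mul (n.le hx) (n.le hy), h.padd r hr'.1 hr'.2 _ (h.dX (n.le hx) m0) _ (h.dX (n.le hy) m0), hx1 r hr,
          hy1 r hr, add_zero]
      inv_mem' := by
        rintro x ⟨hx, hx1⟩
        rw [Set.mem_setOf_eq, h.uinv (n.le hx)]
        exact ⟨hx, hx1⟩ }
  refine n.cent h (Y' := C) (fun x hx => hx.1) ?_ ?_ ⟨hu, h0⟩
  · rintro l hl x ⟨hx, hx1⟩
    refine ⟨n.inv l hl x hx, fun r hr => ?_⟩
    rw [h.d_conj (n.le hx) hl, ← hx1 _ (n.inv l⁻¹ (L.inv_mem hl) r hr),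
      h.pconj (n.le hr) (L.inv_mem hl) (h.dX (n.le hx) m0), inv_inv]
  · intro e
    obtain ⟨u, hu, r, hr, hne⟩ := hm0
    rw [← e] at hu
    exact hne (hu.2 r hr)

/-- `q(u) = 0` iff `u` is centralised by `L₁` iff `dl u m₀` is fixed by `L₁` -/
theorem ce_iff {m0 : M} (hm0 : ∃ u ∈ Y1, ∃ r ∈ Y1, Φ r (dl ρ u m0) ≠ 0) {u : Γ} (hu : u ∈ Y1) :
    Ce ρ B L u ↔ ∀ g ∈ L1 B L, ρ g (dl ρ u m0) = dl ρ u m0 := by
  constructor
  · intro hc g hg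
    exact hc g hg m0
  · intro hf
    exact n.ce_of h hm0 hu fun r hr => n.p_fix h hr (h.dX (n.le hu) m0) hf

/-- the form `f_m` is symmetric -/
theorem symm {u r : Γ} (hu : u ∈ Y1) (hr : r ∈ Y1) (m : M) : Φ r (dl ρ u m) = Φ u (dl ρ r m) :=
  h.pc (n.le hu) (n.le hr) m

theorem p_ce {u r : Γ} (hu : u ∈ Y1) (hr : r ∈ Y1) (hc : Ce ρ B L u) (m : M) : Φ r (dl ρ u m) = 0 :=
  n.p_fix h hr (h.dX (n.le hu) m) fun g hg => hc g hg m

theorem p_ce' {u r : Γ} (hu : u ∈ Y1) (hr : r ∈ Y1) (hc : Ce ρ B L r) (m : M) : Φ r (dl ρ u m) = 0 := by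
  rw [n.symm h hu hr]
  exact n.p_ce h hr hu hc m

end Mn

end Cfsg.Agent.Omega.FOne.ThmA
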