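import Cfsg.Agent.Omega.FOne.ThmA.RedStep

/-!
# (F1'), the REDUCTION (helper297 #20655 (c)): the faithful section
-/

set_option autoImplicit false
set_option linter.unusedSectionVars false

namespace Cfsg.Agent.Omega.FOne.ThmA

open Subgroup Cfsg Cfsg.Agent.ZN
open Cfsg.Agent.Omega.FOne.Tvw (Base z2 addself ap_inv inv_ap)
open Cfsg.Agent.Omega.FOne.NOv

universe u

section res

variable {W : Type u} [AddCommGroup W] [Module (ZMod 2) W]

/-- the restriction to an invariant subspace -/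
def rs (R : Subgroup (W ≃ₗ[ZMod 2] W)) (V : Submodule (ZMod 2) W) (hV : ∀ r ∈ R, ∀ v ∈ V, r v ∈ V) :
    R →* (V ≃ₗ[ZMod 2] V) where
  toFun r :=
    { toFun := fun v => ⟨(r : W ≃ₗ[ZMod 2] W) (v : W), hV r r.2 v v.2⟩
      map_add' := fun v w => Subtype.ext (map_add (r : W ≃ₗ[ZMod 2] W) (v : W) (w : W))
      map_smul' := fun c v => Subtype.ext (map_smul (r : W ≃ₗ[ZMod 2] W) c (v : W))
      invFun := fun v => ⟨((r : W ≃ₗ[ZMod 2] W)⁻¹ : W ≃ₗ[ZMod 2] W) (v : W), hV _ (R.inv_mem r.2) v v.2⟩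
      left_inv := fun v => Subtype.ext (inv_ap (r : W ≃ₗ[ZMod 2] W) v)
      right_inv := fun v => Subtype.ext (ap_inv (r : W ≃ₗ[ZMod 2] W) v) }
  map_one' := by ext v; rfl
  map_mul' _ _ := by ext v; rfl

theorem rs_coe {R : Subgroup (W ≃ₗ[ZMod 2] W)} {V : Submodule (ZMod 2) W} {hV : ∀ r ∈ R, ∀ v ∈ V, r v ∈ V} (r : R)
    (v : V) : ((rs R V hV r v : V) : W) = (r : W ≃ₗ[ZMod 2] W) v := rfl

theorem card_top' {W : Type*} [AddCommGroup W] [Module (ZMod 2) W] :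
    Nat.card (⊤ : Submodule (ZMod 2) W) = Nat.card W := Nat.card_congr (Equiv.Set.univ W)

end res

/-- the data of the step -/
structure Stp {W : Type u} [AddCommGroup W] [Module (ZMod 2) W] (X R : Subgroup (W ≃ₗ[ZMod 2] W)) (y θ θn : W)
    (T B : Subgroup (W ≃ₗ[ZMod 2] W)) : Prop where
  st : St X y θ T
  hT : T ≤ R
  hR : R ≤ X
  g : Good X y θ B
  inter : B ⊓ Fq R y (WR R y θ) = ⊥
  cover : WR R y θ ⊔ cms y B = ⊤
  mem : θn ∈ WR R y θ
  fixs : ∀ r ∈ R, r (θ + θn) = θ + θn ∨ r (θ + θn) = θ + θn + y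
  kn : ∀ k ∈ Fq R y (WR R y θ), k θn = θn

namespace Stp

variable {W : Type u} [AddCommGroup W] [Module (ZMod 2) W] {X R T B : Subgroup (W ≃ₗ[ZMod 2] W)} {y θ θn : W}
variable (p : Stp X R y θ θn T B)
include p

theorem yR {r : W ≃ₗ[ZMod 2] W} (hr : r ∈ R) : r y = y := p.st.fixy (p.hR hr)

theorem ap_θ {r : W ≃ₗ[ZMod 2] W} (hr : r ∈ R) : r θ = r θn + (θ + θn) ∨ r θ = r θn + (θ + θn) + y := by
  have h1 := p.fixs r hr
  have h2 : r θ = r θn + r (θ + θn) := by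
    rw [map_add]
    have := addself (r θn)
    linear_combination (norm := module) -this
  rcases h1 with h1 | h1
  · left; rw [h2, h1]
  · right; rw [h2, h1]; abel

theorem invV {r : W ≃ₗ[ZMod 2] W} (hr : r ∈ R) {v : W} (hv : v ∈ WR R y θn) : r v ∈ WR R y θn :=
  WR_inv (fun _ hr => p.yR hr) hr hv

/-- `K_R` is trivial on `W_n` -/
theorem kV {k : W ≃ₗ[ZMod 2] W} (hk : k ∈ Fq R y (WR R y θ)) {v : W} (hv : v ∈ WR R y θn) : k v = v := by
  have h1 : WR R y θn ≤ cw (Fq R y (WR R y θ)) := by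
    refine WR_le (fun k hk => hk.2.1) fun r hr k hk => ?_
    have h2 := p.kn _ (p.st.ker_conj p.hR (R.inv_mem hr) hk)
    rw [inv_inv] at h2
    change r⁻¹ (k (r θn)) = θn at h2
    rw [← ap_inv r (k (r θn)), h2]
  exact h1 hv k hk

/-- `C_R(M_n) = K_R` -/
theorem ker_of {x : W ≃ₗ[ZMod 2] W} (hx : x ∈ R) (hf : ∀ v ∈ WR R y θn, x v = v ∨ x v = v + y) :
    x ∈ Fq R y (WR R y θ) := by
  rw [mem_Fq_WR]
  refine ⟨hx, p.yR hx, fun r hr => ?_⟩
  have h1 := hf _ (ap_mem_WR hr)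
  have h2 := p.fixs x hx
  rw [← mk_eq] at h1 h2 ⊢
  have h3 : (Sy y).mkQ (r θ) = (Sy y).mkQ (r θn + (θ + θn)) := by
    rw [mk_eq]
    exact p.ap_θ hr
  have h4 : (Sy y).mkQ (x (r θ)) = (Sy y).mkQ (x (r θn + (θ + θn))) := by
    rw [mk_eq] at h3 ⊢
    rcases h3 with h3 | h3 <;> rw [h3]
    · left; rfl
    · right; rw [map_add, p.yR hx]
  rw [h4, h3, map_add, map_add, map_add (Sy y).mkQ, h1, h2]

variable [Finite W]

theorem BT : B ≤ T := p.g.BO.trans p.st.o2_stb_le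

theorem BR : B ≤ R := p.BT.trans p.hT

theorem coverV : WR R y θn ⊔ cms y B = ⊤ := by
  rw [eq_top_iff, ← p.cover]
  refine sup_le (WR_le (Submodule.mem_sup_left y_mem_WR) fun r hr => ?_) le_sup_right
  have h1 : θ + θn ∈ cms y B := fun b hb => p.fixs b (p.BR hb)
  have h2 : y ∈ WR R y θn := y_mem_WR
  rcases p.ap_θ hr with h3 | h3 <;> rw [h3]
  · exact Submodule.add_mem_sup (ap_mem_WR hr) h1
  · have h4 : r θn + (θ + θn) + y = (r θn + y) + (θ + θn) := by abel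
    rw [h4]
    exact Submodule.add_mem_sup (add_mem (ap_mem_WR hr) h2) h1

/-- counting in `W = W_n + C` -/
theorem cnt {C : Submodule (ZMod 2) W} (hC : cms y B ≤ C) :
    Nat.card (WR R y θn) * Nat.card C = Nat.card W * Nat.card (WR R y θn ⊓ C : Submodule (ZMod 2) W) := by
  have h1 : WR R y θn ⊔ C = ⊤ := by
    rw [eq_top_iff, ← p.coverV]
    exact sup_le_sup_left hC _
  rw [← card_sup_inf, h1, card_top']

/-- `M`-exactness of `D ≤ B` is exactness on `M_n` -/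
theorem ex_iff {D : Subgroup (W ≃ₗ[ZMod 2] W)} (hD : D ≤ B) :
    MEx y D ↔ Nat.card D * Nat.card (WR R y θn ⊓ cms y D : Submodule (ZMod 2) W) = Nat.card (WR R y θn) := by
  have h1 := p.cnt (C := cms y D) (cm_anti hD)
  have p1 : 0 < Nat.card (WR R y θn) := Nat.card_pos
  have p2 : 0 < Nat.card W := Nat.card_pos
  constructor
  · intro h2
    have h2' : Nat.card D * Nat.card (cms y D) = Nat.card W := h2
    refine Nat.eq_of_mul_eq_mul_left p2 ?_
    calc Nat.card W * (Nat.card D * Nat.card (WR R y θn ⊓ cms y D : Submodule (ZMod 2) W))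
        = Nat.card D * (Nat.card W * Nat.card (WR R y θn ⊓ cms y D : Submodule (ZMod 2) W)) := by ring
      _ = (Nat.card D * Nat.card (cms y D)) * Nat.card (WR R y θn) := by rw [← h1]; ring
      _ = _ := by rw [h2']
  · intro h2
    change Nat.card D * Nat.card (cms y D) = Nat.card W
    refine Nat.eq_of_mul_eq_mul_left p1 ?_
    calc Nat.card (WR R y θn) * (Nat.card D * Nat.card (cms y D))
        = Nat.card D * (Nat.card (WR R y θn) * Nat.card (cms y D)) := by ring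
      _ = Nat.card W * (Nat.card D * Nat.card (WR R y θn ⊓ cms y D : Submodule (ZMod 2) W)) := by rw [h1]; ring
      _ = Nat.card (WR R y θn) * Nat.card W := by rw [h2, mul_comm]

/-! ### the section -/

/-- the restriction `R → GL(W_n)` -/
noncomputable def f : R →* (WR R y θn ≃ₗ[ZMod 2] WR R y θn) := rs R (WR R y θn) fun _ hr _ hv => p.invV hr hv

theorem f_coe (r : R) (v : WR R y θn) : ((p.f r v : WR R y θn) : W) = (r : W ≃ₗ[ZMod 2] W) v := rfl

theorem f_eq (r : R) (v w : WR R y θn) : p.f r v = w ↔ (r : W ≃ₗ[ZMod 2] W) v = w := by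
  rw [Subtype.ext_iff, p.f_coe]

/-- the image of `X` -/
noncomputable def X' : Subgroup (WR R y θn ≃ₗ[ZMod 2] WR R y θn) := p.f.range

/-- the image of `D ≤ R` -/
noncomputable def im (D : Subgroup (W ≃ₗ[ZMod 2] W)) : Subgroup (WR R y θn ≃ₗ[ZMod 2] WR R y θn) :=
  (D.subgroupOf R).map p.f

theorem mem_im {D : Subgroup (W ≃ₗ[ZMod 2] W)} {x : WR R y θn ≃ₗ[ZMod 2] WR R y θn} :
    x ∈ p.im D ↔ ∃ r : R, (r : W ≃ₗ[ZMod 2] W) ∈ D ∧ p.f r = x := Iff.rfl

theorem mem_X' {x : WR R y θn ≃ₗ[ZMod 2] WR R y θn} : x ∈ p.X' ↔ ∃ r : R, p.f r = x := Iff.rfl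

theorem im_le (D : Subgroup (W ≃ₗ[ZMod 2] W)) : p.im D ≤ p.X' := by
  rintro _ ⟨r, _, rfl⟩
  exact ⟨r, rfl⟩

theorem f_one {r : R} (hf : ∀ v ∈ WR R y θn, (r : W ≃ₗ[ZMod 2] W) v = v ∨ (r : W ≃ₗ[ZMod 2] W) v = v + y) :
    p.f r = 1 := by
  apply LinearEquiv.ext
  intro v
  rw [p.f_eq]
  exact p.kV (p.ker_of r.2 hf) v.2

/-- `y` -/
def y' (_ : Stp X R y θ θn T B) : WR R y θn := ⟨y, y_mem_WR⟩

/-- `θ_n` -/
def θ' (_ : Stp X R y θ θn T B) : WR R y θn := ⟨θn, θ_mem_WR⟩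

theorem mod_iff (r : R) (v w : WR R y θn) : (p.f r v = w ∨ p.f r v = w + p.y') ↔
    ((r : W ≃ₗ[ZMod 2] W) v = w ∨ (r : W ≃ₗ[ZMod 2] W) v = w + y) := by
  rw [p.f_eq, p.f_eq]
  exact Iff.rfl

theorem faith' {x : WR R y θn ≃ₗ[ZMod 2] WR R y θn} (hx : x ∈ p.X') (hf : ∀ w, x w = w ∨ x w = w + p.y') : x = 1 := by
  obtain ⟨r, rfl⟩ := p.mem_X'.mp hx
  exact p.f_one fun v hv => (p.mod_iff r ⟨v, hv⟩ ⟨v, hv⟩).mp (hf ⟨v, hv⟩)

theorem fixy' {x : WR R y θn ≃ₗ[ZMod 2] WR R y θn} (hx : x ∈ p.X') : x p.y' = p.y' := by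
  obtain ⟨r, rfl⟩ := p.mem_X'.mp hx
  rw [p.f_eq]
  exact p.yR r.2

theorem two' : IsPGroup 2 (p.im T) := (p.st.two.of_equiv (subgroupOfEquivOfLe p.hT).symm).map _

theorem syl' : ¬ 2 ∣ (p.im T).relIndex p.X' := by
  intro h1
  refine p.st.sylR p.hT p.hR (h1.trans ?_)
  have h2 : (p.im T).subgroupOf p.X' = (T.subgroupOf R).map p.f.rangeRestrict := by
    ext x
    rw [mem_subgroupOf]
    constructor
    · rintro ⟨r, hr, e⟩
      exact ⟨r, hr, Subtype.ext e⟩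
    · rintro ⟨r, hr, e⟩
      exact ⟨r, hr, congrArg Subtype.val e⟩
  change ((p.im T).subgroupOf p.X').index ∣ (T.subgroupOf R).index
  rw [h2]
  exact index_map_dvd _ p.f.rangeRestrict_surjective

theorem Tθ' : ∀ t ∈ p.im T, t p.θ' = p.θ' ∨ t p.θ' = p.θ' + p.y' := by
  rintro _ ⟨r, hr, rfl⟩
  rw [p.mod_iff]
  have h1 := p.fixs r r.2
  have h2 := p.st.Tθ r hr
  change (r : W ≃ₗ[ZMod 2] W) θn = θn ∨ (r : W ≃ₗ[ZMod 2] W) θn = θn + y
  rw [← mk_eq] at h1 h2 ⊢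
  rw [map_add, map_add, map_add, h2] at h1
  exact add_left_cancel h1

theorem gen' (U : Submodule (ZMod 2) (WR R y θn)) (h1 : p.y' ∈ U) (h2 : ∀ x ∈ p.X', x p.θ' ∈ U) : U = ⊤ := by
  rw [eq_top_iff]
  rintro ⟨v, hv⟩ _
  have h3 : WR R y θn ≤ U.map (WR R y θn).subtype := by
    refine WR_le ⟨_, h1, rfl⟩ fun r hr => ?_
    exact ⟨_, h2 _ ⟨⟨r, hr⟩, rfl⟩, rfl⟩
  obtain ⟨⟨u, hu'⟩, hu, e⟩ := h3 hv
  have : (⟨v, hv⟩ : WR R y θn) = ⟨u, hu'⟩ := Subtype.ext e.symm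
  rw [this]; exact hu

/-- normal 2-subgroups of `X'` are trivial -/
theorem core' (N : Subgroup (WR R y θn ≃ₗ[ZMod 2] WR R y θn)) (hN : N ≤ p.X')
    (hn : ∀ h ∈ p.X', ∀ n ∈ N, h * n * h⁻¹ ∈ N) (h2 : IsPGroup 2 N) : N = ⊥ := by
  have hfin : Finite (WR R y θn ≃ₗ[ZMod 2] WR R y θn) := DFunLike.finite _
  have h3 : N ≤ o2 p.X' := by
    refine le_o2 hN h2 fun x hx => ?_
    rw [mem_normalizer_iff]
    intro n
    constructor
    · exact fun hn' => hn x hx n hn'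
    · intro hn'
      have h1 := hn _ (p.X'.inv_mem hx) _ hn'
      have h2 : x⁻¹ * (x * n * x⁻¹) * x⁻¹⁻¹ = n := by group
      rwa [h2] at h1
  have h4 : N ≤ p.im T := h3.trans (o2_le_of_sylow (p.im_le T) p.two' p.syl')
  rw [eq_bot_iff]
  intro n hnN
  rw [mem_bot]
  refine p.faith' (hN hnN) fun w => ?_
  have h5 : (⊤ : Submodule (ZMod 2) (WR R y θn)) ≤ fm p.y' n := by
    rw [← p.gen' (fm p.y' n) (y_mem_fm (p.fixy' (hN hnN))) ?_]
    intro x hx
    have h6 := hn _ (p.X'.inv_mem hx) n hnN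
    rw [inv_inv] at h6
    have h7 := p.Tθ' _ (h4 h6)
    change n (x p.θ') = x p.θ' ∨ n (x p.θ') = x p.θ' + p.y'
    have h8 : n (x p.θ') = x ((x⁻¹ * n * x) p.θ') := by
      change n (x p.θ') = x (x⁻¹ (n (x p.θ')))
      rw [ap_inv]
    rw [h8]
    rcases h7 with h7 | h7 <;> rw [h7]
    · left; rfl
    · right; rw [map_add, p.fixy' hx]
  exact h5 trivial

theorem θn_ne : θn ≠ 0 ∧ θn ≠ y := by
  by_contra hcon
  have h1 : θn = 0 ∨ θn = y := by
    by_contra h2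
    push Not at h2
    exact hcon h2
  -- then `R` fixes `θ` modulo `y`
  have h2 : (Sy y).mkQ θn = 0 := mk_eq_zero.mpr h1
  have h3 : ∀ r ∈ R, (Sy y).mkQ (r θ) = (Sy y).mkQ θ := by
    intro r hr
    have h4 := p.fixs r hr
    have h5 : (Sy y).mkQ (r θn) = 0 := by
      rw [mk_eq_zero]
      rcases h1 with h1 | h1 <;> rw [h1]
      · left; exact map_zero r
      · right; exact p.yR hr
    rw [← mk_eq, map_add, map_add, map_add, h2, h5, add_zero, add_zero] at h4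
    exact h4
  have h4 : B ≤ Fq R y (WR R y θ) := by
    intro b hb
    rw [mem_Fq_WR]
    refine ⟨p.BR hb, p.yR (p.BR hb), fun r hr => ?_⟩
    rw [← mk_eq]
    exact (h3 _ (R.mul_mem (p.BR hb) hr)).trans (h3 r hr).symm
  have h5 := p.inter
  rw [inf_eq_left.mpr h4] at h5
  exact p.g.atom.ne h5

/-- **the section is a situation** -/
theorem st' : St p.X' p.y' p.θ' (p.im T) where
  known := ML.Final.kgroup_of_surj p.st.known (R.subgroupOf X)
    (p.f.rangeRestrict.comp (subgroupOfEquivOfLe p.hR).toMonoidHom)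
    (p.f.rangeRestrict_surjective.comp (subgroupOfEquivOfLe p.hR).surjective)
  base :=
    { y0 := fun h => p.st.base.y0 (congrArg Subtype.val h)
      fix := fun _ hx => p.fixy' hx
      faith := fun _ hx hf => p.faith' hx hf
      core := fun N hN hn h2 => p.core' N hN hn h2 }
  TX := p.im_le T
  two := p.two'
  syl := p.syl'
  fixT := by
    rintro ⟨w, hw⟩ hf
    have h1 := p.st.fixT w fun t ht => by
      have h2 := hf (p.f ⟨t, p.hT ht⟩) ⟨⟨t, p.hT ht⟩, ht, rfl⟩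
      exact congrArg Subtype.val h2
    rcases h1 with h1 | h1
    · left; exact Subtype.ext h1
    · right; exact Subtype.ext h1
  θ0 := fun h => p.θn_ne.1 (congrArg Subtype.val h)
  θy := fun h => p.θn_ne.2 (congrArg Subtype.val h)
  Tθ := p.Tθ'
  gen := p.gen'

/-! ### the atom -/

theorem f_inj {r s : R} (hr : (r : W ≃ₗ[ZMod 2] W) ∈ B) (hs : (s : W ≃ₗ[ZMod 2] W) ∈ B) (e : p.f r = p.f s) : r = s := by
  have h1 : ((r : W ≃ₗ[ZMod 2] W)⁻¹ * s : W ≃ₗ[ZMod 2] W) ∈ B ⊓ Fq R y (WR R y θ) := by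
    refine ⟨B.mul_mem (B.inv_mem hr) hs, ?_⟩
    have h2 : p.f (r⁻¹ * s) = 1 := by rw [map_mul, map_inv, e, inv_mul_cancel]
    refine p.ker_of (R.mul_mem (R.inv_mem r.2) s.2) fun v hv => Or.inl ?_
    have h3 : p.f (r⁻¹ * s) ⟨v, hv⟩ = ⟨v, hv⟩ := by rw [h2]; rfl
    exact congrArg Subtype.val h3
  rw [p.inter, mem_bot] at h1
  apply Subtype.ext
  exact (inv_mul_eq_one.mp h1)

theorem card_im {D : Subgroup (W ≃ₗ[ZMod 2] W)} (hD : D ≤ B) : Nat.card (p.im D) = Nat.card D := by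
  symm
  refine Nat.card_congr (Equiv.ofBijective
    (fun d : D => (⟨p.f ⟨d, p.BR (hD d.2)⟩, ⟨⟨d, p.BR (hD d.2)⟩, d.2, rfl⟩⟩ : p.im D)) ⟨?_, ?_⟩)
  · rintro ⟨a, ha⟩ ⟨b, hb⟩ e
    have h1 := p.f_inj (r := ⟨a, p.BR (hD ha)⟩) (s := ⟨b, p.BR (hD hb)⟩) (hD ha) (hD hb) (congrArg Subtype.val e)
    exact Subtype.ext (congrArg (fun r : R => (r : W ≃ₗ[ZMod 2] W)) h1)
  · rintro ⟨_, r, hr, rfl⟩
    exact ⟨⟨r, hr⟩, rfl⟩

theorem card_cms {D : Subgroup (W ≃ₗ[ZMod 2] W)} (hD : D ≤ B) :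
    Nat.card (cms p.y' (p.im D)) = Nat.card (WR R y θn ⊓ cms y D : Submodule (ZMod 2) W) := by
  refine Nat.card_congr
    { toFun := fun v => ⟨v.1.1, v.1.2, fun d hd => ?_⟩
      invFun := fun v => ⟨⟨v.1, v.2.1⟩, ?_⟩
      left_inv := fun v => rfl
      right_inv := fun v => rfl }
  · have h1 := v.2 (p.f ⟨d, p.BR (hD hd)⟩) ⟨⟨d, p.BR (hD hd)⟩, hd, rfl⟩
    exact (p.mod_iff _ _ _).mp h1
  · rintro _ ⟨r, hr, rfl⟩
    exact (p.mod_iff _ _ _).mpr (v.2.2 _ hr)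

theorem mex_iff {D : Subgroup (W ≃ₗ[ZMod 2] W)} (hD : D ≤ B) : MEx p.y' (p.im D) ↔ MEx y D := by
  rw [p.ex_iff hD, ← p.card_cms hD]
  change Nat.card (p.im D) * Nat.card (cms p.y' (p.im D)) = _ ↔ _
  rw [p.card_im hD]

/-- **the image of `B` is a good atom** -/
theorem good' : Good p.X' p.y' p.θ' (p.im B) where
  BO := by
    have hfin : Finite (WR R y θn ≃ₗ[ZMod 2] WR R y θn) := DFunLike.finite _
    set O := o2 (Fq X y {θ}) with hO
    have h1 : p.im B ≤ p.im (O ⊓ R) := by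
      rintro _ ⟨r, hr, rfl⟩
      exact ⟨r, ⟨p.g.BO hr, r.2⟩, rfl⟩
    refine h1.trans (le_o2 ?_ ?_ ?_)
    · rintro _ ⟨r, hr, rfl⟩
      refine ⟨⟨r, rfl⟩, p.fixy' ⟨r, rfl⟩, ?_⟩
      rintro v rfl
      have h2 : (r : W ≃ₗ[ZMod 2] W) ∈ T := p.st.o2_stb_le hr.1
      exact p.Tθ' _ ⟨r, h2, rfl⟩
    · refine IsPGroup.map (IsPGroup.of_equiv ?_ (subgroupOfEquivOfLe inf_le_right).symm) _
      exact (isPGroup_o2 _).to_le inf_le_left
    · intro x hx
      have hgen : ∀ x : WR R y θn ≃ₗ[ZMod 2] WR R y θn, x ∈ Fq p.X' p.y' {p.θ'} → ∀ n ∈ p.im (O ⊓ R),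
          x * n * x⁻¹ ∈ p.im (O ⊓ R) := by
        rintro _ ⟨⟨r, rfl⟩, -, hr⟩ _ ⟨s, hs, rfl⟩
        refine ⟨r * s * r⁻¹, ⟨?_, (r * s * r⁻¹).2⟩, by rw [map_mul, map_mul, map_inv]⟩
        have h3 := (p.mod_iff r p.θ' p.θ').mp (hr _ rfl)
        change (r : W ≃ₗ[ZMod 2] W) θn = θn ∨ (r : W ≃ₗ[ZMod 2] W) θn = θn + y at h3
        have h4 := p.fixs r r.2
        have h5 : (r : W ≃ₗ[ZMod 2] W) ∈ Fq X y {θ} := by
          refine ⟨p.hR r.2, p.yR r.2, ?_⟩
          rintro v rfl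
          rw [← mk_eq] at h3 h4 ⊢
          rw [map_add, map_add, map_add, h3] at h4
          exact add_right_cancel h4
        exact (mem_normalizer_iff.mp (le_normalizer_o2 _ h5) _).mp hs.1
      rw [mem_normalizer_iff]
      intro n
      constructor
      · exact fun hn => hgen x hx n hn
      · intro hn
        have h1 := hgen _ ((Fq p.X' p.y' {p.θ'}).inv_mem hx) _ hn
        have h2 : x⁻¹ * (x * n * x⁻¹) * x⁻¹⁻¹ = n := by group
        rwa [h2] at h1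
  sq := by
    rintro _ ⟨r, hr, rfl⟩
    rw [← map_mul]
    have : r * r = 1 := Subtype.ext (p.g.sq r hr)
    rw [this, map_one]
  quadM := by
    rintro _ ⟨r, hr, rfl⟩ _ ⟨s, hs, rfl⟩ w
    rw [p.mod_iff]
    exact p.g.quadM r hr s hs w
  atom :=
    { ne := by
        intro h1
        have h2 := p.card_im (D := B) le_rfl
        rw [h1, Subgroup.card_bot] at h2
        have := p.g.four
        omega
      ex := (p.mex_iff le_rfl).mpr p.g.atom.ex
      min := by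
        intro C hC hne hex
        let D : Subgroup (W ≃ₗ[ZMod 2] W) := (C.comap p.f).map R.subtype ⊓ B
        have hD : D ≤ B := inf_le_right
        have h1 : p.im D = C := by
          ext x
          constructor
          · rintro ⟨r, ⟨⟨s, hs, e⟩, -⟩, rfl⟩
            have : r = s := Subtype.ext e.symm
            rw [this]; exact hs
          · intro hx
            obtain ⟨r, hr, rfl⟩ := hC hx
            exact ⟨r, ⟨⟨r, hx, rfl⟩, hr⟩, rfl⟩
        have h2 : D ≠ ⊥ := by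
          intro h3
          apply hne
          rw [← h1, h3]
          rw [eq_bot_iff]
          rintro _ ⟨r, hr, rfl⟩
          rw [mem_bot]
          have : r = 1 := Subtype.ext (mem_bot.mp hr)
          rw [this, map_one]
        rw [← h1] at hex
        have h3 := p.g.atom.min D hD h2 ((p.mex_iff hD).mp hex)
        rw [← h1, h3] }
  four := by
    rw [p.card_im le_rfl]
    exact p.g.four

theorem card_X' : Nat.card p.X' ≤ Nat.card R := by
  have hfin : Finite (W ≃ₗ[ZMod 2] W) := DFunLike.finite _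
  exact Nat.card_le_card_of_surjective p.f.rangeRestrict p.f.rangeRestrict_surjective

end Stp

end Cfsg.Agent.Omega.FOne.ThmA
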