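import Cfsg.Agent.Omega.FOne.ThmA.RedDef

/-!
# (F1'), the REDUCTION (helper297 #20655 (a), (b)): `R = ⟨B^R⟩ T` and the vector `θ_n`
-/

set_option autoImplicit false
set_option linter.unusedSectionVars false

namespace Cfsg.Agent.Omega.FOne.ThmA

open Subgroup Cfsg Cfsg.Agent.ZN
open Cfsg.Agent.Omega.FOne.Tvw (Base z2 addself ap_inv inv_ap)
open Cfsg.Agent.Omega.FOne.NOv

universe u

theorem L1_norm {G : Type*} [Group G] {B L : Subgroup G} : L ≤ normalizer (L1 B L : Set G) := by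
  intro l hl
  rw [mem_normalizer_iff]
  intro g
  constructor
  · exact fun hg => L1_conj hl hg
  · intro hg
    have h1 := L1_conj (L.inv_mem hl) hg
    have h2 : l⁻¹ * (l * g * l⁻¹) * l⁻¹⁻¹ = g := by group
    rwa [h2] at h1

/-- `O₂(L) ≤ O₂(R)` for `L` normalised by `R` -/
theorem o2_mono {G : Type*} [Group G] {L R : Subgroup G} (h1 : L ≤ R) (h2 : R ≤ normalizer (L : Set G)) : o2 L ≤ o2 R :=
  le_o2 ((o2_le L).trans h1) (isPGroup_o2 L) (h2.trans (normalizer_le_normalizer_o2 L))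

namespace St

variable {W : Type u} [AddCommGroup W] [Module (ZMod 2) W] {X R T B : Subgroup (W ≃ₗ[ZMod 2] W)} {y θ : W}
variable (h : St X y θ T)
include h

/-- `K_R` is normal in `R` -/
theorem ker_conj (hR : R ≤ X) {r x : W ≃ₗ[ZMod 2] W} (hr : r ∈ R) (hx : x ∈ Fq R y (WR R y θ)) :
    r * x * r⁻¹ ∈ Fq R y (WR R y θ) :=
  conj_Fq (fun r hr => h.fixy (hR hr)) (fun r hr v hv => WR_inv (fun r hr => h.fixy (hR hr)) hr hv) le_rfl hr hx

theorem ker_norm (hR : R ≤ X) : R ≤ normalizer (Fq R y (WR R y θ) : Set (W ≃ₗ[ZMod 2] W)) := by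
  intro r hr
  rw [mem_normalizer_iff]
  intro x
  constructor
  · exact fun hx => h.ker_conj hR hr hx
  · intro hx
    have h1 := h.ker_conj hR (R.inv_mem hr) hx
    have h2 : r⁻¹ * (r * x * r⁻¹) * r⁻¹⁻¹ = x := by group
    rwa [h2] at h1

variable [Finite W]

/-- `O₂(R)` is trivial on `⟨λ^R⟩` -/
theorem o2_triv (hT : T ≤ R) (hR : R ≤ X) : o2 R ≤ Fq R y (WR R y θ) := by
  intro x hx
  rw [mem_Fq_WR]
  refine ⟨o2_le _ hx, h.fixy (hR (o2_le _ hx)), fun r hr => ?_⟩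
  have h1 : r⁻¹ * x * r ∈ o2 R := by
    have h2 := (mem_normalizer_iff.mp (le_normalizer_o2 R (R.inv_mem hr)) x).mp hx
    rwa [inv_inv] at h2
  have h2 := h.Tθ _ (h.o2_le_T hT hR h1)
  have h3 : x (r θ) = r ((r⁻¹ * x * r) θ) := by
    change x (r θ) = r (r⁻¹ (x (r θ)))
    rw [ap_inv]
  rw [h3]
  rcases h2 with h2 | h2 <;> rw [h2]
  · left; rfl
  · right; rw [map_add, h.fixy (hR hr)]

/-- an atom which is trivial on `⟨λ^R⟩` is low in `R` -/
theorem low_of (hT : T ≤ R) (hR : R ≤ X) (g : Good X y θ B) (hB : B ≤ Fq R y (WR R y θ)) : B ≤ o2 R := by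
  set K := Fq R y (WR R y θ) with hK
  have hKS : K ≤ Fq X y {θ} := fun x hx =>
    ⟨hR hx.1, hx.2.1, by rintro v rfl; exact hx.2.2 v θ_mem_WR⟩
  have h1 : o2 (Fq X y {θ}) ⊓ K ≤ o2 K := by
    refine le_o2 inf_le_right ((isPGroup_o2 _).to_le inf_le_left) ?_
    intro k hk
    rw [mem_normalizer_iff]
    intro x
    have h2 := mem_normalizer_iff.mp (le_normalizer_o2 (Fq X y {θ}) (hKS hk)) x
    have h3 := mem_normalizer_iff.mp (le_normalizer hk) x
    exact and_congr h2 h3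
  exact ((le_inf g.BO hB).trans h1).trans (o2_mono Fq_le (h.ker_norm hR))

/-- **(a)** -/
theorem step_a (hT : T ≤ R) (hR : R ≤ X) (g : Good X y θ B) (hn : ¬ B ≤ Fq R y (WR R y θ))
    (hmin : ∀ R', T ≤ R' → R' ≤ R → R' ≠ R → B ≤ Fq R' y (WR R' y θ)) : L1 B R ⊔ T = R := by
  have hBR : B ≤ R := (g.BO.trans h.o2_stb_le).trans hT
  set Ls := L1 B R with hLs
  have hLR : Ls ≤ R := L1_le hBR
  by_contra hne
  have hB1 := hmin (Ls ⊔ T) le_sup_right (sup_le hLR hT) hne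
  have hBL : B ≤ Ls := B_le_L1
  set L2 := L1 B Ls with hL2
  have hL2L : L2 ≤ Ls := L1_le hBL
  have hL2S : L2 ≤ Fq X y {θ} := by
    rw [hL2, L1, closure_le]
    rintro _ ⟨l, hl, b, hb, rfl⟩
    have hlX := hR (hLR hl)
    have hbX := hR (hBR hb)
    refine ⟨X.mul_mem (X.mul_mem hlX hbX) (X.inv_mem hlX), h.fixy (X.mul_mem (X.mul_mem hlX hbX) (X.inv_mem hlX)), ?_⟩
    rintro v rfl
    change l (b (l⁻¹ v)) = v ∨ l (b (l⁻¹ v)) = v + y
    have h2 := (hB1 hb).2.2 (l⁻¹ v) (ap_mem_WR (le_sup_left (a := Ls) (b := T) (Ls.inv_mem hl)))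
    rcases h2 with h2 | h2 <;> rw [h2]
    · left; exact ap_inv l v
    · right; rw [map_add, ap_inv, h.fixy hlX]
  have h1 : o2 (Fq X y {θ}) ⊓ L2 ≤ o2 L2 := by
    refine le_o2 inf_le_right ((isPGroup_o2 _).to_le inf_le_left) ?_
    intro k hk
    rw [mem_normalizer_iff]
    intro x
    have h2 := mem_normalizer_iff.mp (le_normalizer_o2 (Fq X y {θ}) (hL2S hk)) x
    have h3 := mem_normalizer_iff.mp (le_normalizer hk) x
    exact and_congr h2 h3
  have h2 : B ≤ o2 R :=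
    (((le_inf g.BO B_le_L1).trans h1).trans (o2_mono hL2L L1_norm)).trans (o2_mono hLR L1_norm)
  exact hn (h2.trans (h.o2_triv hT hR))

/-- **(b)** -/
theorem step_b (hT : T ≤ R) (hR : R ≤ X) (hBR : B ≤ R) (hg : L1 B R ⊔ T = R) :
    ∃ θn ∈ WR R y θ, (∀ r ∈ R, r (θ + θn) = θ + θn ∨ r (θ + θn) = θ + θn + y) ∧
      ∀ U : Submodule (ZMod 2) W, y ∈ U → (∀ l ∈ L1 B R, ∀ v ∈ WR R y θ, l v + v ∈ U) → θn ∈ U := by
  classical
  set Ls := L1 B R with hLs
  have hLR : Ls ≤ R := L1_le hBR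
  -- the action on `M = W / y`
  let ρ : R →* Module.End (ZMod 2) (W ⧸ Sy y) := (rq h.base).comp (inclusion hR)
  have hρ : ∀ (r : R) (w : W), ρ r ((Sy y).mkQ w) = (Sy y).mkQ ((r : W ≃ₗ[ZMod 2] W) w) := fun _ _ => rfl
  let _ : MulAction R (W ⧸ Sy y) := MulAction.compHom _ ρ
  have hsm : ∀ (r : R) (m : W ⧸ Sy y), r • m = ρ r m := fun _ _ => rfl
  have hfM : Finite (W ⧸ Sy y) := Finite.of_surjective _ (Sy y).mkQ_surjective
  set lam := (Sy y).mkQ θ with hlam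
  -- the orbit
  have hfo : (MulAction.orbit R lam).Finite := Set.toFinite _
  set O := hfo.toFinset with hO
  have hmO : ∀ m, m ∈ O ↔ ∃ r : R, (Sy y).mkQ ((r : W ≃ₗ[ZMod 2] W) θ) = m := by
    intro m
    rw [hO, Set.Finite.mem_toFinset]
    exact Iff.rfl
  have hodd : Odd O.card := by
    have h1 : O.card = (MulAction.stabilizer R lam).index := by
      rw [MulAction.index_stabilizer, Set.ncard_eq_toFinset_card _ hfo]
    have h2 : T.subgroupOf R ≤ MulAction.stabilizer R lam := by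
      intro t ht
      rw [MulAction.mem_stabilizer_iff, hsm, hρ, hlam, mk_eq]
      exact h.Tθ _ ht
    rw [h1, ← Nat.not_even_iff_odd, even_iff_two_dvd]
    intro h3
    exact h.sylR hT hR (h3.trans (index_dvd_of_le h2))
  set s := ∑ m ∈ O, m with hs
  have hinv : ∀ r : R, ρ r s = s := by
    intro r
    rw [hs, map_sum]
    refine Finset.sum_nbij' (fun m => ρ r m) (fun m => ρ r⁻¹ m) ?_ ?_ ?_ ?_ ?_
    · intro m hm
      obtain ⟨k, rfl⟩ := (hmO m).mp hm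
      exact (hmO _).mpr ⟨r * k, rfl⟩
    · intro m hm
      obtain ⟨k, rfl⟩ := (hmO m).mp hm
      exact (hmO _).mpr ⟨r⁻¹ * k, rfl⟩
    · intro m _
      change (ρ r⁻¹ * ρ r) m = m
      rw [← map_mul, inv_mul_cancel, map_one]; rfl
    · intro m _
      change (ρ r * ρ r⁻¹) m = m
      rw [← map_mul, mul_inv_cancel, map_one]; rfl
    · intro m _; rfl
  have hsum : lam + s = ∑ m ∈ O, (lam + m) := by
    rw [Finset.sum_add_distrib, Finset.sum_const]
    congr 1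
    obtain ⟨k, hk⟩ := hodd
    rw [hk, add_smul, mul_comm, mul_smul, one_smul, two_smul, addself, smul_zero, zero_add]
  -- `R`-orbit = `L`-orbit
  have horb : ∀ r ∈ R, ∃ l ∈ Ls, (Sy y).mkQ (r θ) = (Sy y).mkQ (l θ) := by
    have hyR : ∀ r ∈ R, r y = y := fun r hr => h.fixy (hR hr)
    let P : (W ≃ₗ[ZMod 2] W) → Prop := fun r => ∀ l ∈ Ls, ∃ l' ∈ Ls, (Sy y).mkQ (r (l θ)) = (Sy y).mkQ (l' θ)
    have hPL : ∀ r ∈ Ls, P r := fun r hr l hl => ⟨r * l, mul_mem hr hl, rfl⟩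
    have hPT : ∀ t ∈ T, P t := by
      intro t ht l hl
      refine ⟨t * l * t⁻¹, L1_conj (hT ht) hl, ?_⟩
      change (Sy y).mkQ (t (l θ)) = (Sy y).mkQ (t (l (t⁻¹ θ)))
      rw [mk_eq]
      rcases h.Tθ _ (T.inv_mem ht) with h1 | h1 <;> rw [h1]
      · left; rfl
      · right
        rw [map_add, map_add, hyR _ (hLR hl), hyR _ (hT ht), add_assoc, addself, add_zero]
    have key : ∀ r ∈ Ls ⊔ T, (P r ∧ P r⁻¹) ∧ r ∈ R := by
      intro r hr
      rw [sup_eq_closure] at hr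
      induction hr using closure_induction with
      | mem x hx =>
        rcases hx with hx | hx
        · exact ⟨⟨hPL x hx, hPL _ (Ls.inv_mem hx)⟩, hLR hx⟩
        · exact ⟨⟨hPT x hx, hPT _ (T.inv_mem hx)⟩, hT hx⟩
      | one => exact ⟨⟨hPL 1 Ls.one_mem, by rw [inv_one]; exact hPL 1 Ls.one_mem⟩, R.one_mem⟩
      | mul a b _ _ ha hb =>
        have hmul : ∀ a b : W ≃ₗ[ZMod 2] W, a ∈ R → P a → P b → P (a * b) := by
          intro a b haR pa pb l hl
          obtain ⟨l1, hl1, e1⟩ := pb l hl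
          obtain ⟨l2, hl2, e2⟩ := pa l1 hl1
          refine ⟨l2, hl2, ?_⟩
          rw [← e2]
          change (Sy y).mkQ (a (b (l θ))) = _
          rw [mk_eq] at e1 ⊢
          rcases e1 with e1 | e1 <;> rw [e1]
          · left; rfl
          · right; rw [map_add, hyR a haR]
        refine ⟨⟨hmul a b ha.2 ha.1.1 hb.1.1, ?_⟩, R.mul_mem ha.2 hb.2⟩
        rw [mul_inv_rev]
        exact hmul _ _ (R.inv_mem hb.2) hb.1.2 ha.1.2
      | inv a _ ha => exact ⟨⟨ha.1.2, by rw [inv_inv]; exact ha.1.1⟩, R.inv_mem ha.2⟩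
    intro r hr
    rw [← hg] at hr
    obtain ⟨l', hl', e⟩ := (key r hr).1.1 1 Ls.one_mem
    exact ⟨l', hl', e⟩
  -- the lift
  obtain ⟨θn, hθn⟩ := (Sy y).mkQ_surjective (lam + s)
  have hs' : (Sy y).mkQ (θ + θn) = s := by
    rw [map_add, hθn, ← add_assoc, ← hlam, addself, zero_add]
  have hlast : ∀ U : Submodule (ZMod 2) W, y ∈ U → (∀ l ∈ Ls, ∀ v ∈ WR R y θ, l v + v ∈ U) → θn ∈ U := by
    intro U hyU hU
    have h1 : (Sy y).mkQ θn ∈ U.map (Sy y).mkQ := by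
      rw [hθn, hsum]
      refine Submodule.sum_mem _ fun m hm => ?_
      obtain ⟨r, rfl⟩ := (hmO m).mp hm
      obtain ⟨l, hl, e⟩ := horb r r.2
      refine ⟨l θ + θ, hU l hl θ θ_mem_WR, ?_⟩
      rw [map_add, e, add_comm]
    obtain ⟨u, hu, e⟩ := h1
    rcases mk_eq.mp e.symm with h2 | h2
    · rw [h2]; exact hu
    · rw [h2]; exact add_mem hu hyU
  refine ⟨θn, hlast _ y_mem_WR fun l hl v hv => ?_, fun r hr => ?_, hlast⟩
  · exact add_mem (WR_inv (fun r hr => h.fixy (hR hr)) (hLR hl) hv) hv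
  · rw [← mk_eq, hs']
    have h1 := hinv ⟨r, hr⟩
    rw [← hs', hρ] at h1
    rw [← hs']
    exact h1

end St

end Cfsg.Agent.Omega.FOne.ThmA
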