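import Cfsg.Agent.Omega.FOne.ThmA.Coord

/-!
# THEOREM A (helper297 #20655): `B` is a full root group of `K`-transvections on `V`
-/

set_option autoImplicit false
set_option linter.unusedSectionVars false

namespace Cfsg.Agent.Omega.FOne.ThmA

open Subgroup
open Cfsg.Agent.Omega.FOne.Tvw (z2 addself z2add eq_of_add_eq_zero')
open Cfsg.Agent.Omega.FOne.NOv.TrA (ap_mul ap_one inv_ap ap_inv)

universe u

variable {Γ : Type*} {M : Type u} [Group Γ] [AddCommGroup M] [Module (ZMod 2) M]
variable {ρ : Γ →* Module.End (ZMod 2) M} {B L N : Subgroup Γ} {X : Submodule (ZMod 2) M} {Φ : Γ → M → ZMod 2}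

/-- `B` acts on `V` as the group of all `x ↦ x + k φ(x) a` -/
structure Rt (B : Subgroup Γ) {V K : Type*} [AddCommGroup V] [Module (ZMod 2) V] [Field K] [Module K V]
    (s : Γ → V →ₗ[ZMod 2] V) (φ : V →ₗ[K] K) (a : V) : Prop where
  fa : φ a = 0
  a0 : a ≠ 0
  e0 : ∃ e, φ e = 1
  ex : ∀ k : K, ∃ b ∈ B, ∀ x, s b x = x + (k * φ x) • a
  all : ∀ b ∈ B, ∃ k : K, ∀ x, s b x = x + (k * φ x) • a

namespace Fd

variable [Finite Γ] [Finite M] (h : Fr ρ B L N X Φ) {Y1 : Subgroup Γ} {m0 : M} {V : Type u} [AddCommGroup V]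
  [Module (ZMod 2) V] [Finite V] {q : Γ → V} {K : Type u} [Field K] [Finite K] [Module K V]
  {f : V →ₗ[ZMod 2] Module.Dual (ZMod 2) V} {s : Γ → V →ₗ[ZMod 2] V} {t : M →+ K}
  (D : Fd ρ B L X Φ Y1 m0 q f s t)
include h D

theorem exists_root (hs : Function.Surjective t) (hc : Nat.card K = Nat.card B) :
    ∃ (φ : V →ₗ[K] K) (a : V), Rt B s φ a ∧ (∀ k : K, ∀ x y, f (k • x) y = f x (k • y)) ∧
      ∀ x y, φ x = 0 → f x ((φ y) • a) = 0 := by
  classical
  have n := D.mn
  obtain ⟨u0, hu0, hm, -⟩ := D.toQt.exists_mv h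
  have hWB := D.e0_notMem h hu0 hm
  set e0 := q u0 with he0
  have hk : ∀ k : K, ∀ x y, f (k • x) y = f x (k • y) := by
    intro k x y
    obtain ⟨m, rfl⟩ := hs k
    exact D.ftk h m x y
  -- the functional
  obtain ⟨φ0, h01, h02⟩ := Submodule.exists_le_ker_of_notMem hWB
  let φ : V →ₗ[K] K := (φ0 e0)⁻¹ • φ0
  have φe : φ e0 = 1 := by
    change (φ0 e0)⁻¹ * φ0 e0 = 1
    exact inv_mul_cancel₀ h01
  have φW : ∀ x ∈ D.WB h, φ x = 0 := by
    intro x hx
    change (φ0 e0)⁻¹ * φ0 x = 0
    rw [LinearMap.mem_ker.mp (h02 hx), mul_zero]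
  have hdec : ∀ x, ∀ b ∈ B, s b x + x = φ x • (s b e0 + e0) := by
    intro x
    obtain ⟨m, hm'⟩ := D.dec h hu0 hm x
    have h1 : x - t m • e0 ∈ D.WB h := by
      intro b hb
      have h2 := hm' b hb
      rw [map_sub, D.sk b (h.BL hb)]
      rw [smul_add] at h2
      have h3 := addself x
      have h4 := addself (t m • e0)
      have h5 : s b x = x + t m • s b e0 + t m • e0 := by
        have := congrArg (fun z => z + x) h2
        have e1 : s b x + x + x = s b x := by rw [add_assoc, h3, add_zero]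
        change s b x + x + x = t m • s b e0 + t m • e0 + x at this
        rw [e1] at this
        rw [this]; abel
      rw [h5]
      have e2 : x + t m • s b e0 + t m • e0 - t m • s b e0 = x - t m • e0 + (t m • e0 + t m • e0) := by abel
      rw [e2, h4, add_zero]
    have h2 := φW _ h1
    rw [map_sub, map_smul, φe, smul_eq_mul, mul_one, sub_eq_zero] at h2
    rw [h2]; exact hm'
  have hW0 : ∀ x, φ x = 0 → x ∈ D.WB h := by
    intro x hx b hb
    have := hdec x b hb
    rw [hx, zero_smul] at this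
    exact eq_of_add_eq_zero' this
  -- `b₀` and `a`
  obtain ⟨b0, hb0, -, -⟩ := id hm
  obtain ⟨b0, hb0, hb01⟩ : ∃ b0 ∈ B, b0 ≠ 1 := by
    obtain ⟨b, hb, m, hbm⟩ := hm
    refine ⟨b, hb, ?_⟩
    rintro rfl
    exact hbm (dl_eq_zero.mpr (ap_one ρ _))
  set a := s b0 e0 + e0 with ha
  have a0 : a ≠ 0 := by
    intro e
    apply hb01
    refine D.faith h hb0 fun x => ?_
    have := hdec x b0 hb0
    rw [← ha, e, smul_zero] at this
    exact eq_of_add_eq_zero' this
  -- `w ⊥ [V, B]`
  have hperp : ∀ x, φ x = 0 → ∀ b ∈ B, ∀ y, f x (s b y + y) = 0 := by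
    intro x hx b hb y
    rw [← D.sym_b h hb, (D.mem_WB h).mp (hW0 x hx) b hb, addself, map_zero]; rfl
  have hfix : ∀ b ∈ B, ∀ y, φ (s b y + y) = 0 := fun b hb y => φW _ fun b' hb' => D.quadr h hb hb' y
  -- a vector `z = a_b + k a` orthogonal to `K e₀` is `0`
  have hz : ∀ b ∈ B, ∀ k : K, (∀ τ : K, f (τ • e0) (s b e0 + e0) = f (τ • e0) (k • a)) → s b e0 + e0 = k • a := by
    intro b hb k hτ
    refine D.feq h fun y => ?_
    rw [D.fsymm h, D.fsymm h (k • a)]
    have hy : y = (y - φ y • e0) + φ y • e0 := by abel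
    have hy0 : φ (y - φ y • e0) = 0 := by rw [map_sub, map_smul, φe, smul_eq_mul, mul_one, sub_self]
    have e1 : f (y - φ y • e0) (s b e0 + e0) = 0 := hperp _ hy0 b hb e0
    have e2 : f (y - φ y • e0) (k • a) = 0 := by
      rw [← hk, ha]
      exact hperp _ (by rw [map_smul, hy0, smul_zero]) b0 hb0 e0
    have e3 : ∀ z, f y z = f (y - φ y • e0) z + f (φ y • e0) z := by
      intro z
      conv_lhs => rw [hy]
      rw [map_add f, LinearMap.add_apply]
    rw [e3, e3 (k • a), e1, e2, hτ]
  -- the functionals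
  have hch : ∀ k : K, k + k = 0 := D.char2 h
  let iK : Module (ZMod 2) K := AddCommGroup.zmodModule (fun k => by rw [two_nsmul]; exact hch k)
  have hsm : ∀ (c : ZMod 2) (k : K) (x : V), (c • k) • x = c • (k • x) := by
    intro c k x
    rcases z2 c with rfl | rfl
    · rw [zero_smul, zero_smul, zero_smul]
    · rw [one_smul, one_smul]
  have hfK : Finite (Module.Dual (ZMod 2) K) := DFunLike.finite _
  let F : V → Module.Dual (ZMod 2) K := fun x =>
    { toFun := fun τ => f (τ • e0) x
      map_add' := fun τ τ' => by rw [add_smul, map_add f, LinearMap.add_apply]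
      map_smul' := fun c τ => by rw [hsm, map_smul f, LinearMap.smul_apply, RingHom.id_apply] }
  have hF : ∀ x τ, F x τ = f (τ • e0) x := fun _ _ => rfl
  let κ : B → Module.Dual (ZMod 2) K := fun b => F (s b e0 + e0)
  have hκ : Function.Injective κ := by
    intro b b' e
    have h1 : s b e0 + e0 = s b' e0 + e0 := by
      have e1 : ∀ τ : K, f (τ • e0) (s b e0 + e0 + (s b' e0 + e0)) = 0 := by
        intro τ
        have := congrArg (fun g : Module.Dual (ZMod 2) K => g τ) e
        change f (τ • e0) (s b e0 + e0) = f (τ • e0) (s b' e0 + e0) at this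
        rw [map_add, this]; exact z2add _
      have e2 : s b e0 + e0 + (s b' e0 + e0) = 0 := by
        refine D.fz h fun y => ?_
        rw [D.fsymm h]
        have hy : y = (y - φ y • e0) + φ y • e0 := by abel
        have hy0 : φ (y - φ y • e0) = 0 := by rw [map_sub, map_smul, φe, smul_eq_mul, mul_one, sub_self]
        have e3 : ∀ z, f y z = f (y - φ y • e0) z + f (φ y • e0) z := by
          intro z
          conv_lhs => rw [hy]
          rw [map_add f, LinearMap.add_apply]
        rw [e3, e1, add_zero, map_add, hperp _ hy0 b b.2 e0, hperp _ hy0 b' b'.2 e0, add_zero]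
      exact eq_of_add_eq_zero' e2
    have h2 : (b : Γ) * (b' : Γ) = 1 := by
      refine D.faith h (B.mul_mem b.2 b'.2) fun x => ?_
      have e3 : s b' x = x + φ x • (s b' e0 + e0) := by
        have := hdec x b' b'.2
        rw [← this]; rw [add_comm (s b' x), ← add_assoc, addself, zero_add]
      have e4 : s b x = x + φ x • (s b e0 + e0) := by
        have := hdec x b b.2
        rw [← this]; rw [add_comm (s b x), ← add_assoc, addself, zero_add]
      have e5 : s b (s b' e0 + e0) = s b' e0 + e0 := by rw [← h1]; exact D.quadr h b.2 b.2 e0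
      rw [D.s_mul (h.BL b.2) (h.BL b'.2), e3, map_add, D.sk b (h.BL b.2), e5, e4, h1, add_assoc, addself, add_zero]
    have h3 : (b : Γ) = (b' : Γ)⁻¹ := eq_inv_of_mul_eq_one_left h2
    rw [h.inv b'.2] at h3
    exact Subtype.ext h3
  have hκs : Function.Surjective κ := by
    have : Nat.card (Module.Dual (ZMod 2) K) ≤ Nat.card B := by rw [card_dual, hc]
    exact (hκ.bijective_of_nat_card_le this).2
  have hex : ∀ k : K, ∃ b ∈ B, s b e0 + e0 = k • a := by
    intro k
    obtain ⟨b, hb⟩ := hκs (F (k • a))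
    refine ⟨b, b.2, hz b b.2 k fun τ => ?_⟩
    exact congrArg (fun g : Module.Dual (ZMod 2) K => g τ) hb
  have hact : ∀ b ∈ B, ∀ k : K, s b e0 + e0 = k • a → ∀ x, s b x = x + (k * φ x) • a := by
    intro b hb k hk' x
    have := hdec x b hb
    rw [hk', smul_smul, mul_comm] at this
    rw [← this, add_comm (s b x), ← add_assoc, addself, zero_add]
  refine ⟨φ, a, ⟨hfix b0 hb0 e0, a0, ⟨e0, φe⟩, fun k => ?_, ?_⟩, hk, fun x y hx => ?_⟩
  · obtain ⟨b, hb, hb'⟩ := hex k
    exact ⟨b, hb, hact b hb k hb'⟩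
  · choose β hβ hβ' using hex
    let g : K → B := fun k => ⟨β k, hβ k⟩
    have hg : Function.Injective g := by
      intro k k' e
      have e1 : β k = β k' := congrArg Subtype.val e
      have e2 : k • a = k' • a := by rw [← hβ' k, e1, hβ' k']
      have e3 : (k - k') • a = 0 := by rw [sub_smul, e2, sub_self]
      rcases smul_eq_zero.mp e3 with e4 | e4
      · exact sub_eq_zero.mp e4
      · exact absurd e4 a0
    have hgs : Function.Surjective g := (hg.bijective_of_nat_card_le hc.ge).2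
    intro b hb
    obtain ⟨k, hk'⟩ := hgs ⟨b, hb⟩
    have e1 : β k = b := congrArg Subtype.val hk'
    refine ⟨k, hact b hb k ?_⟩
    rw [← e1]; exact hβ' k
  · rw [← hk, ha]
    exact hperp _ (by rw [map_smul, hx, smul_zero]) b0 hb0 e0

/-- a conjugate in general position -/
theorem exists_opp {φ : V →ₗ[K] K} {a : V} (R : Rt B s φ a) (hk : ∀ k : K, ∀ x y, f (k • x) y = f x (k • y))
    (hp : ∀ x y, φ x = 0 → f x ((φ y) • a) = 0) : ∃ g ∈ L, φ (s g a) ≠ 0 ∧ φ (s g⁻¹ a) ≠ 0 := by
  obtain ⟨e, he⟩ := R.e0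
  have hp' : ∀ x, φ x = 0 → ∀ k : K, f x (k • a) = 0 := by
    intro x hx k
    have := hp x (k • e) hx
    have e1 : φ (k • e) = k := by rw [map_smul, he, smul_eq_mul, mul_one]
    rwa [e1] at this
  obtain ⟨g, hg, hga⟩ : ∃ g ∈ L, φ (s g a) ≠ 0 := by
    by_contra hcon
    push Not at hcon
    let W : AddSubgroup V :=
      { carrier := {x | ∀ l ∈ L, φ (s l x) = 0}
        zero_mem' := fun l _ => by rw [map_zero, map_zero]
        add_mem' := fun hx hy l hl => by rw [map_add, map_add, hx l hl, hy l hl, add_zero]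
        neg_mem' := fun hx l hl => by rw [map_neg, map_neg, hx l hl, neg_zero] }
    rcases D.toQt.irr h W (fun l hl u hu hq l' hl' => by
      rw [← D.sl l hl u hu, ← D.s_mul hl' hl]
      exact hq _ (L.mul_mem hl' hl)) with h1 | h1
    · have : a ∈ W := hcon
      rw [h1, AddSubgroup.mem_bot] at this
      exact R.a0 this
    · have h2 : e ∈ W := by rw [h1]; trivial
      have h3 := h2 1 L.one_mem
      rw [D.s_one, he] at h3
      exact one_ne_zero h3
  refine ⟨g, hg, hga, fun h0 => R.a0 ?_⟩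
  -- `f (k a) (s g a) = 0` for all `k`
  have h1 : ∀ k : K, f (k • a) (s g a) = 0 := by
    intro k
    rw [D.fsymm h, D.fs' h hg, D.sk _ (L.inv_mem hg), D.fsymm h]
    have := hp' (k • s g⁻¹ a) (by rw [map_smul, h0, smul_zero]) 1
    rwa [one_smul] at this
  -- `s g a = w + φ(s g a) e`
  set c := φ (s g a) with hc
  have hw : φ (s g a - c • e) = 0 := by rw [map_sub, map_smul, he, smul_eq_mul, mul_one, hc, sub_self]
  have h2 : ∀ k : K, f (k • a) (c • e) = 0 := by
    intro k
    have e1 := h1 k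
    have e2 : s g a = (s g a - c • e) + c • e := by abel
    rw [e2, map_add, D.fsymm h, hp' _ hw k, zero_add] at e1
    exact e1
  refine D.fz h fun y => ?_
  have e3 : y = (y - φ y • e) + φ y • e := by abel
  have e4 : φ (y - φ y • e) = 0 := by rw [map_sub, map_smul, he, smul_eq_mul, mul_one, sub_self]
  have e5 : f a (y - φ y • e) = 0 := by
    rw [D.fsymm h]
    have := hp' _ e4 1
    rwa [one_smul] at this
  have e6 : f a (φ y • e) = 0 := by
    have := h2 (φ y * c⁻¹)
    rw [hk, smul_smul, mul_assoc, inv_mul_cancel₀ hga, mul_one] at this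
    exact this
  rw [e3, map_add, e5, e6, add_zero]

end Fd

end Cfsg.Agent.Omega.FOne.ThmA
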