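import Cfsg.Agent.Omega.FOne.ThmA.Root
import Cfsg.Agent.Omega.NatPair.Semi

/-!
# THEOREM A (helper297 #20655): `⟨B, B^g⟩ = SL₂(K)` and the coordinates `e : M → K²`
-/

set_option autoImplicit false
set_option linter.unusedSectionVars false

namespace Cfsg.Agent.Omega.FOne.ThmA

open Subgroup
open Cfsg.Agent.Lib.SL2Mat
open Cfsg.Agent.Omega.NatPair (ext2 ap_zero' ap_one')
open Cfsg.Agent.Omega.FOne.Tvw (z2 addself z2add eq_of_add_eq_zero')
open Cfsg.Agent.Omega.FOne.NOv.TrA (ap_mul ap_one inv_ap ap_inv)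

universe u

/-- extension of a homomorphism from `S` to `M = S + C` by zero on `C` -/
theorem exists_ext {M A : Type*} [AddCommGroup M] [Module (ZMod 2) M] [AddCommGroup A] {S C : Submodule (ZMod 2) M}
    (hSC : S ⊔ C = ⊤) (F : S →+ A) (h0 : ∀ v : S, (v : M) ∈ C → F v = 0) :
    ∃ G : M →+ A, (∀ v : S, G v = F v) ∧ ∀ w ∈ C, G w = 0 := by
  have hd : ∀ m : M, ∃ v : S, m - (v : M) ∈ C := by
    intro m
    have hm : m ∈ S ⊔ C := by rw [hSC]; trivial
    obtain ⟨v, hv, w, hw, rfl⟩ := Submodule.mem_sup.mp hm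
    exact ⟨⟨v, hv⟩, by rw [add_sub_cancel_left]; exact hw⟩
  choose v hv using hd
  have wd : ∀ (m : M) (v' : S), m - (v' : M) ∈ C → F (v m) = F v' := by
    intro m v' hv'
    have h1 : F (v m - v') = 0 := h0 _ (by
      have := C.sub_mem hv' (hv m)
      rwa [sub_sub_sub_cancel_left] at this)
    rwa [map_sub, sub_eq_zero] at h1
  refine ⟨AddMonoidHom.mk' (fun m => F (v m)) fun a b => ?_, fun x => ?_, fun w hw => ?_⟩
  · rw [← map_add]
    refine wd _ _ ?_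
    have := C.add_mem (hv a) (hv b)
    rw [Submodule.coe_add]
    convert this using 1
    abel
  · exact wd _ x (by rw [sub_self]; exact C.zero_mem)
  · have := wd w 0 (by rw [Submodule.coe_zero, sub_zero]; exact hw)
    rwa [map_zero] at this

variable {Γ : Type*} {M : Type u} [Group Γ] [AddCommGroup M] [Module (ZMod 2) M]
variable {ρ : Γ →* Module.End (ZMod 2) M} {B L N : Subgroup Γ} {X : Submodule (ZMod 2) M} {Φ : Γ → M → ZMod 2}

namespace Fd

variable [Finite Γ] [Finite M] (h : Fr ρ B L N X Φ) {Y1 : Subgroup Γ} {m0 : M} {V : Type u} [AddCommGroup V]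
  [Module (ZMod 2) V] [Finite V] {q : Γ → V} {K : Type u} [Field K] [Finite K] [Module K V]
  {f : V →ₗ[ZMod 2] Module.Dual (ZMod 2) V} {s : Γ → V →ₗ[ZMod 2] V} {t : M →+ K}
  (D : Fd ρ B L X Φ Y1 m0 q f s t) {p : Sm h D.mn m0 →ₗ[ZMod 2] V}
  (pq : ∀ u (hu : u ∈ Y1), q u = p ⟨dl ρ u m0, u, hu, rfl⟩)
include h D

include pq in
theorem p_s {l : Γ} (hl : l ∈ L) (v : Sm h D.mn m0) : p ⟨ρ l v, Sm_inv h D.mn hl v.2⟩ = s l (p v) := by
  obtain ⟨_, u, hu, rfl⟩ := v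
  rw [← pq u hu, D.sl l hl u hu, pq _ (D.mn.inv l hl u hu)]
  congr 1
  exact Subtype.ext (h.d_conj (D.mn.le hu) hl m0).symm

include pq in
theorem p_d {l : Γ} (hl : l ∈ L) (v : Sm h D.mn m0) :
    ∃ hm : ρ l v + (v : M) ∈ Sm h D.mn m0, p ⟨ρ l v + v, hm⟩ = s l (p v) + p v := by
  refine ⟨(Sm h D.mn m0).add_mem (Sm_inv h D.mn hl v.2) v.2, ?_⟩
  rw [← D.p_s h pq hl, ← map_add]
  rfl

include pq in
theorem p_zero {v : Sm h D.mn m0} (hv : p v = 0) {g : Γ} (hg : g ∈ L1 B L) : ρ g v = v := by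
  obtain ⟨_, u, hu, rfl⟩ := v
  rw [← pq u hu, D.zero u hu] at hv
  exact hv g hg m0

variable (hS : Sm h D.mn m0 ⊔ cv ρ B = ⊤)

include hS in
/-- `[M, L₁] ≤ S` -/
theorem dS {g : Γ} (hg : g ∈ L1 B L) (m : M) : ρ g m + m ∈ Sm h D.mn m0 := by
  induction hg using closure_induction generalizing m with
  | mem x hx =>
    obtain ⟨l, hl, b, hb, rfl⟩ := hx
    have hm : ρ l⁻¹ m ∈ Sm h D.mn m0 ⊔ cv ρ B := by rw [hS]; trivial
    obtain ⟨v, hv, w, hw, e⟩ := Submodule.mem_sup.mp hm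
    have e1 : ρ (l * b * l⁻¹) m + m = ρ l (ρ b v + v) := by
      have e2 : m = ρ l (v + w) := by rw [e, ap_inv]
      rw [ap_mul, ap_mul, ← e, map_add, hw b hb, map_add, map_add]
      conv_lhs => rw [e2, map_add]
      linear_combination (norm := module) addself (ρ l w)
    rw [e1]
    exact Sm_inv h D.mn hl ((Sm h D.mn m0).add_mem (Sm_inv h D.mn (h.BL hb) hv) hv)
  | one => rw [ap_one, addself]; exact Submodule.zero_mem _
  | mul x y _ _ hx hy =>
    have e1 : ρ (x * y) m + m = (ρ x (ρ y m) + ρ y m) + (ρ y m + m) := by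
      rw [ap_mul]
      linear_combination (norm := module) (-1 : ZMod 2) • addself (ρ y m)
    rw [e1]
    exact Submodule.add_mem _ (hx _) (hy _)
  | inv x _ hx =>
    have h1 := hx (ρ x⁻¹ m)
    rwa [ap_inv, add_comm] at h1

include pq hS in
/-- an element of `L₁` trivial on `V` is trivial on `S` -/
theorem triv_S {r : Γ} (hr : r ∈ L1 B L) (hV : ∀ x, s r x = x) {v : M} (hv : v ∈ Sm h D.mn m0) : ρ r v = v := by
  have hLB := L1_le h.BL
  let R : Subgroup Γ :=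
    { carrier := {x | x ∈ L1 B L ∧ ∀ y, s x y = y}
      one_mem' := ⟨one_mem _, fun y => D.s_one y⟩
      mul_mem' := by
        rintro x y ⟨hx, hx1⟩ ⟨hy, hy1⟩
        exact ⟨mul_mem hx hy, fun z => by rw [D.s_mul (hLB hx) (hLB hy), hy1, hx1]⟩
      inv_mem' := by
        rintro x ⟨hx, hx1⟩
        refine ⟨inv_mem hx, fun z => ?_⟩
        conv_lhs => rw [← hx1 z]
        exact D.s_inv (hLB hx) z }
  refine h.rad R (fun x hx => hx.1) ?_ ?_ r ⟨hr, hV⟩ v (Sm_le h D.mn hv)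
  · rintro g hg x ⟨hx, hx1⟩
    refine ⟨mul_mem (mul_mem hg hx) (inv_mem hg), fun z => ?_⟩
    rw [D.s_mul (L.mul_mem (hLB hg) (hLB hx)) (L.inv_mem (hLB hg)), D.s_mul (hLB hg) (hLB hx), hx1,
      D.s_inv' (hLB hg)]
  · rintro ⟨x, hx, hx1⟩
    refine ⟨2, Subtype.ext ?_⟩
    change x ^ (2 ^ 2) = 1
    refine h.ext fun m => ?_
    -- `x² m = m + z`, `z` fixed
    have key : ∀ m, ∃ z, ρ x z = z ∧ ρ x (ρ x m) = m + z := by
      intro m
      have h1 := D.dS h hS hx m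
      obtain ⟨h2, h3⟩ := D.p_d h pq (hLB hx) ⟨_, h1⟩
      rw [hx1, addself] at h3
      have h4 := D.p_zero h pq h3 hx
      refine ⟨_, h4, ?_⟩
      change ρ x (ρ x m) = m + (ρ x (ρ x m + m) + (ρ x m + m))
      rw [map_add]
      linear_combination (norm := module) (-1 : ZMod 2) • addself (ρ x m) - addself m
    have e1 : x ^ (2 ^ 2) = x * (x * (x * x)) := by
      rw [show (2 : ℕ) ^ 2 = 4 from rfl]
      simp only [pow_succ, pow_zero, one_mul, mul_assoc]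
    obtain ⟨z, hz1, hz2⟩ := key m
    rw [e1, ap_mul, ap_mul, ap_mul, ap_one, hz2, map_add, map_add, hz1, hz1, hz2, add_assoc, addself, add_zero]

include pq hS in
/-- **the coordinates and the group `SL₂(K)`** -/
theorem exists_sl (ps : Function.Surjective p)
    (hfix : ∀ v : Sm h D.mn m0, (∀ b ∈ B, s b (p v) = p v) → (v : M) ∈ cv ρ B) {φ : V →ₗ[K] K} {a : V}
    (R : Rt B s φ a) {g : Γ} (hg : g ∈ L) (hc : φ (s g a) ≠ 0) (hd : φ (s g⁻¹ a) ≠ 0) :
    ∃ (l : Matrix.SpecialLinearGroup (Fin 2) K →* Γ) (e : M →+ (Fin 2 → K)),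
      (∀ A m, e (ρ (l A) m) = NatPair.ap A (e m)) ∧ (∀ A m, e m = 0 → ρ (l A) m = m) ∧
      (∀ x, ∃ v ∈ Sm h D.mn m0, e v = x) ∧ (∀ A, l A ∈ L1 B L) ∧ ∀ k, l (up k) ∈ B := by
  classical
  have n := D.mn
  have hLB := L1_le h.BL
  set c := φ (s g a) with hcdef
  set d := φ (s g⁻¹ a) with hddef
  have hch := D.char2 h
  have hgi := L.inv_mem hg
  -- the functional `ψ`
  obtain ⟨ψ, hψ1, hψ2⟩ := exists_ext hS (φ.toAddMonoidHom.comp p.toAddMonoidHom) (by
    intro v hv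
    change φ (p v) = 0
    obtain ⟨b, hb, hb'⟩ := R.ex 1
    obtain ⟨_, u, hu, rfl⟩ := v
    have h1 := D.q_conj h hu (h.BL hb) (hv b hb)
    rw [← pq u hu]
    rw [hb', one_mul] at h1
    have h2 : φ (q u) • a = 0 := by
      have := add_eq_left.mp h1
      exact this
    rcases smul_eq_zero.mp h2 with h3 | h3
    · exact h3
    · exact absurd h3 R.a0)
  have hψ1' : ∀ v (hv : v ∈ Sm h D.mn m0), ψ v = φ (p ⟨v, hv⟩) := fun v hv => hψ1 ⟨v, hv⟩
  have hψ3 : ∀ m, ψ m = 0 → m ∈ cv ρ B := by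
    intro m hm
    have hm' : m ∈ Sm h D.mn m0 ⊔ cv ρ B := by rw [hS]; trivial
    obtain ⟨v, hv, w, hw, rfl⟩ := Submodule.mem_sup.mp hm'
    rw [map_add, hψ2 w hw, add_zero, hψ1' v hv] at hm
    refine Submodule.add_mem _ (hfix ⟨v, hv⟩ fun b hb => ?_) hw
    obtain ⟨k, hk⟩ := R.all b hb
    rw [hk, hm, mul_zero, zero_smul, add_zero]
  let e : M →+ (Fin 2 → K) := AddMonoidHom.mk' (fun m => ![d⁻¹ * ψ (ρ g⁻¹ m), ψ m]) fun m m' => by
    apply ext2
    · simp only [map_add, Pi.add_apply, Matrix.cons_val_zero, mul_add]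
    · simp only [map_add, Pi.add_apply, Matrix.cons_val_one, Matrix.cons_val_fin_one]
  have e0 : ∀ m, e m 0 = d⁻¹ * ψ (ρ g⁻¹ m) := fun m => rfl
  have e1 : ∀ m, e m 1 = ψ m := fun m => rfl
  -- values on `S`
  have eS0 : ∀ v (hv : v ∈ Sm h D.mn m0), e v 0 = d⁻¹ * φ (s g⁻¹ (p ⟨v, hv⟩)) := by
    intro v hv
    rw [e0, hψ1' _ (Sm_inv h n hgi hv)]
    congr 2
    exact D.p_s h pq hgi ⟨v, hv⟩
  have eS1 : ∀ v (hv : v ∈ Sm h D.mn m0), e v 1 = φ (p ⟨v, hv⟩) := fun v hv => hψ1' v hv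
  -- `B`
  have hB : ∀ b ∈ B, ∀ k : K, (∀ x, s b x = x + (k * φ x) • a) → ∀ m, e (ρ b m) = NatPair.ap (up k) (e m) := by
    intro b hb k hk m
    have hm' : m ∈ Sm h D.mn m0 ⊔ cv ρ B := by rw [hS]; trivial
    obtain ⟨v, hv, w, hw, em⟩ := Submodule.mem_sup.mp hm'
    obtain ⟨hδ, hpδ⟩ := D.p_d h pq (h.BL hb) ⟨v, hv⟩
    have hψm : ψ m = φ (p ⟨v, hv⟩) := by rw [← em, map_add, hψ2 w hw, add_zero, hψ1' v hv]
    rw [hk] at hpδ
    have hpδ' : p ⟨ρ b v + v, hδ⟩ = (k * ψ m) • a := by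
      rw [hψm]
      change p ⟨ρ b v + v, hδ⟩ = _ at hpδ
      rw [hpδ, add_comm (p _), add_assoc, addself, add_zero]
    have hbm : ρ b m = m + (ρ b v + v) := by
      rw [← em, map_add, hw b hb]
      linear_combination (norm := module) -addself v
    apply ext2
    · rw [ap_zero', up_00, up_01, one_mul, hbm, map_add, Pi.add_apply, eS0 _ hδ, hpδ', D.sk _ hgi, map_smul,
        smul_eq_mul, e1]
      rw [← hddef]
      field_simp
    · rw [ap_one', up_10, up_11, one_mul, zero_mul, zero_add, hbm, map_add, Pi.add_apply, eS1 _ hδ, hpδ', map_smul,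
        R.fa, smul_zero, add_zero]
  -- `B^g`
  have hBg : ∀ b ∈ B, ∀ k : K, (∀ x, s b x = x + (k * φ x) • a) →
      ∀ m, e (ρ (g * b * g⁻¹) m) = NatPair.ap (lo (k * d * c)) (e m) := by
    intro b hb k hk m
    set m' := ρ g⁻¹ m with hm'def
    have hm' : m' ∈ Sm h D.mn m0 ⊔ cv ρ B := by rw [hS]; trivial
    obtain ⟨v, hv, w, hw, em⟩ := Submodule.mem_sup.mp hm'
    obtain ⟨hδ, hpδ⟩ := D.p_d h pq (h.BL hb) ⟨v, hv⟩
    have hψm : ψ m' = φ (p ⟨v, hv⟩) := by rw [← em, map_add, hψ2 w hw, add_zero, hψ1' v hv]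
    rw [hk] at hpδ
    have hpδ' : p ⟨ρ b v + v, hδ⟩ = (k * ψ m') • a := by
      rw [hψm]
      change p ⟨ρ b v + v, hδ⟩ = _ at hpδ
      rw [hpδ, add_comm (p _), add_assoc, addself, add_zero]
    have hbm : ρ b m' = m' + (ρ b v + v) := by
      rw [← em, map_add, hw b hb]
      linear_combination (norm := module) -addself v
    have hgm : ρ (g * b * g⁻¹) m = m + ρ g (ρ b v + v) := by
      rw [ap_mul, ap_mul, ← hm'def, hbm, map_add, hm'def, ap_inv]
    apply ext2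
    · rw [ap_zero', lo_00, lo_01, one_mul, zero_mul, add_zero, hgm, map_add, Pi.add_apply,
        eS0 _ (Sm_inv h n hg hδ), show p ⟨ρ g (ρ b v + v), Sm_inv h n hg hδ⟩ = s g (p ⟨ρ b v + v, hδ⟩) from
          D.p_s h pq hg ⟨_, hδ⟩, D.s_inv hg, hpδ', map_smul, R.fa, smul_zero, mul_zero, add_zero]
    · rw [ap_one', lo_10, lo_11, one_mul, hgm, map_add, Pi.add_apply, eS1 _ (Sm_inv h n hg hδ),
        show p ⟨ρ g (ρ b v + v), Sm_inv h n hg hδ⟩ = s g (p ⟨ρ b v + v, hδ⟩) from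
          D.p_s h pq hg ⟨_, hδ⟩, hpδ', D.sk _ hg, map_smul, smul_eq_mul, e0, ← hm'def]
      rw [← hcdef]
      field_simp
      ring
  -- surjectivity
  have hsur : ∀ x : Fin 2 → K, ∃ v ∈ Sm h D.mn m0, e v = x := by
    intro x
    obtain ⟨v, hv⟩ := ps (x 0 • a + (x 1 * c⁻¹) • s g a)
    refine ⟨v, v.2, ?_⟩
    apply ext2
    · rw [eS0 _ v.2]
      change d⁻¹ * φ (s g⁻¹ (p v)) = _
      rw [hv, map_add, D.sk _ hgi, D.sk _ hgi, D.s_inv hg, map_add, map_smul, map_smul, R.fa, smul_zero, add_zero,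
        smul_eq_mul, ← hddef]
      field_simp
    · rw [eS1 _ v.2]
      change φ (p v) = _
      rw [hv, map_add, map_smul, map_smul, R.fa, smul_zero, zero_add, smul_eq_mul, ← hcdef]
      field_simp
  -- the group
  let L2 : Subgroup Γ := closure ((B : Set Γ) ∪ {x | ∃ b ∈ B, g * b * g⁻¹ = x})
  have hL2 : L2 ≤ L1 B L := by
    rw [closure_le]
    rintro x (hx | ⟨b, hb, rfl⟩)
    · exact B_le_L1 hx
    · exact L1_conj hg (B_le_L1 hb)
  have hker : ∀ m, e m = 0 → ∀ x ∈ L2, ρ x m = m := by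
    intro m hm x hx
    have h1 : m ∈ cv ρ B := hψ3 m (by rw [← e1, hm]; rfl)
    have h2 : ρ g⁻¹ m ∈ cv ρ B := by
      refine hψ3 _ ?_
      have := e0 m
      rw [hm] at this
      rcases mul_eq_zero.mp this.symm with h3 | h3
      · exact absurd h3 (inv_ne_zero hd)
      · exact h3
    induction hx using closure_induction with
    | mem y hy =>
      rcases hy with hy | ⟨b, hb, rfl⟩
      · exact h1 y hy
      · rw [ap_mul, ap_mul, h2 b hb, ap_inv]
    | one => exact ap_one ρ m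
    | mul y z _ _ hy hz => rw [ap_mul, hz, hy]
    | inv y _ hy =>
      conv_lhs => rw [← hy]
      exact inv_ap ρ y m
  -- the action on `V`
  have hV : ∀ x ∈ L2, ∀ y, ∃ k k2 : K, s x y = y + (k • a + k2 • s g a) := by
    intro x hx
    induction hx using closure_induction with
    | mem y hy =>
      intro z
      rcases hy with hy | ⟨b, hb, rfl⟩
      · obtain ⟨k, hk⟩ := R.all y hy
        exact ⟨k * φ z, 0, by rw [hk, zero_smul, add_zero]⟩
      · obtain ⟨k, hk⟩ := R.all b hb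
        refine ⟨0, k * φ (s g⁻¹ z), ?_⟩
        rw [D.s_mul (L.mul_mem hg (h.BL hb)) hgi, D.s_mul hg (h.BL hb), hk, map_add, D.s_inv' hg, D.sk _ hg,
          zero_smul, zero_add]
    | one =>
      intro z
      exact ⟨0, 0, by rw [D.s_one, zero_smul, zero_smul, add_zero, add_zero]⟩
    | mul y z hy' hz' hy hz =>
      intro v
      obtain ⟨k, k2, hk⟩ := hz v
      obtain ⟨k', k2', hk'⟩ := hy (s z v)
      refine ⟨k + k', k2 + k2', ?_⟩
      rw [D.s_mul (hLB (hL2 hy')) (hLB (hL2 hz')), hk', hk, add_smul, add_smul]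
      abel
    | inv y hy' hy =>
      intro v
      obtain ⟨k, k2, hk⟩ := hy (s y⁻¹ v)
      refine ⟨k, k2, ?_⟩
      rw [D.s_inv' (hLB (hL2 hy'))] at hk
      conv_rhs => rw [hk]
      rw [add_assoc, addself, add_zero]
  -- uniqueness
  have huniq : ∀ x ∈ L2, (∀ m, e (ρ x m) = e m) → x = 1 := by
    intro x hx hxe
    have hxL := hLB (hL2 hx)
    have h1 : ∀ y, s x y = y := by
      intro y
      obtain ⟨v, rfl⟩ := ps y
      obtain ⟨k, k2, hk⟩ := hV x hx (p v)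
      have h2 := hxe v
      have h3 : p ⟨ρ x v, Sm_inv h n hxL v.2⟩ = s x (p v) := D.p_s h pq hxL v
      have h4 := congrFun h2 1
      rw [eS1 _ (Sm_inv h n hxL v.2), h3, hk, eS1 _ v.2, map_add, map_add, map_smul, map_smul, R.fa, smul_zero,
        zero_add] at h4
      have h5 : k2 = 0 := by
        have h6 := add_eq_left.mp h4
        rcases mul_eq_zero.mp h6 with h7 | h7
        · exact h7
        · exact absurd h7 hc
      rw [h5, zero_smul, add_zero] at hk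
      have h7 := congrFun h2 0
      rw [eS0 _ (Sm_inv h n hxL v.2), h3, hk, eS0 _ v.2, map_add, D.sk _ hgi, map_add, map_smul, mul_add] at h7
      have h8 : k = 0 := by
        have h9 := add_eq_left.mp h7
        rcases mul_eq_zero.mp h9 with h10 | h10
        · exact absurd h10 (inv_ne_zero hd)
        · rcases mul_eq_zero.mp h10 with h11 | h11
          · exact h11
          · exact absurd h11 hd
      rw [hk, h8, zero_smul, add_zero]
    refine h.ext fun m => ?_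
    rw [ap_one]
    obtain ⟨v, hv, he⟩ := hsur (e m)
    have h2 : e (m - v) = 0 := by rw [map_sub, he, sub_self]
    have h3 := hker _ h2 x hx
    have h4 := D.triv_S h pq hS (hL2 hx) h1 hv
    rw [map_sub, h4] at h3
    exact sub_left_injective h3
  -- existence
  have hexi : ∀ A : Matrix.SpecialLinearGroup (Fin 2) K, ∃ x ∈ L2, ∀ m, e (ρ x m) = NatPair.ap A (e m) := by
    have hup : ∀ k : K, ∃ x ∈ L2, ∀ m, e (ρ x m) = NatPair.ap (up k) (e m) := by
      intro k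
      obtain ⟨b, hb, hk⟩ := R.ex k
      exact ⟨b, subset_closure (Or.inl hb), hB b hb k hk⟩
    have hlo : ∀ k : K, ∃ x ∈ L2, ∀ m, e (ρ x m) = NatPair.ap (lo k) (e m) := by
      intro k
      obtain ⟨b, hb, hk⟩ := R.ex (k * (d * c)⁻¹)
      refine ⟨g * b * g⁻¹, subset_closure (Or.inr ⟨b, hb, rfl⟩), fun m => ?_⟩
      rw [hBg b hb _ hk]
      congr 2
      field_simp
    intro A
    obtain ⟨k1, k2, k3, k4, rfl⟩ := exists_up_lo A
    obtain ⟨x1, hx1, h1⟩ := hup k1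
    obtain ⟨x2, hx2, h2⟩ := hlo k2
    obtain ⟨x3, hx3, h3⟩ := hup k3
    obtain ⟨x4, hx4, h4⟩ := hlo k4
    refine ⟨x1 * x2 * x3 * x4, mul_mem (mul_mem (mul_mem hx1 hx2) hx3) hx4, fun m => ?_⟩
    rw [ap_mul, ap_mul, ap_mul, h1, h2, h3, h4, NatPair.ap_mul, NatPair.ap_mul, NatPair.ap_mul]
  choose lf hlf1 hlf2 using hexi
  have hinvm : ∀ A m, e (ρ (lf A)⁻¹ m) = NatPair.ap A⁻¹ (e m) := by
    intro A m
    have h1 := hlf2 A (ρ (lf A)⁻¹ m)
    rw [ap_inv] at h1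
    rw [h1, NatPair.ap_inv_ap]
  have heq : ∀ A, ∀ x ∈ L2, (∀ m, e (ρ x m) = NatPair.ap A (e m)) → lf A = x := by
    intro A x hx hxe
    have h1 := huniq ((lf A)⁻¹ * x) (mul_mem (inv_mem (hlf1 A)) hx) fun m => by
      rw [ap_mul, hinvm, hxe, NatPair.ap_inv_ap]
    exact (inv_mul_eq_one.mp h1)
  refine ⟨{ toFun := lf
            map_one' := heq 1 1 (one_mem _) fun m => by rw [ap_one, NatPair.ap_one]
            map_mul' := fun A A' => heq _ _ (mul_mem (hlf1 A) (hlf1 A')) fun m => by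
              rw [ap_mul, hlf2, hlf2, NatPair.ap_mul] }, e, hlf2, fun A m hm => hker m hm _ (hlf1 A), hsur,
    fun A => hL2 (hlf1 A), fun k => ?_⟩
  obtain ⟨b, hb, hk⟩ := R.ex k
  have h1 := heq (up k) b (subset_closure (Or.inl hb)) (hB b hb k hk)
  change lf (up k) ∈ B
  rw [h1]; exact hb

end Fd

/-- **the abstract part of THEOREM A** -/
theorem Fr.main [Finite Γ] [Finite M] (h : Fr ρ B L N X Φ) :
    ∃ (K : Type u) (_ : Field K) (_ : Finite K) (l : Matrix.SpecialLinearGroup (Fin 2) K →* Γ)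
      (e : M →+ (Fin 2 → K)) (S : Submodule (ZMod 2) M) (Y1 : Subgroup Γ), Nat.card K = Nat.card B ∧
      (∀ k : K, k + k = 0) ∧ (∀ A m, e (ρ (l A) m) = NatPair.ap A (e m)) ∧
      (∀ A m, e m = 0 → ρ (l A) m = m) ∧ S ≤ X ∧ (∀ g ∈ L, ∀ v ∈ S, ρ g v ∈ S) ∧ (∀ x, ∃ v ∈ S, e v = x) ∧
      (∀ A, l A ∈ L1 B L) ∧ (∀ k, l (up k) ∈ B) ∧ Y1 ≤ YY ρ L X ∧
      ∀ v ∈ S, (∀ r ∈ Y1, Φ r v = 0) → ∀ g ∈ L1 B L, ρ g v = v := by
  obtain ⟨Y1, n⟩ := h.exists_mn
  obtain ⟨m0, hm0⟩ := n.exists_m h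
  obtain ⟨V, iV1, iV2, iV3, q, p, Q, ps, pq⟩ := exists_qt h n hm0
  obtain ⟨K, iK, iF, iM, f, s, t, D⟩ := Q.exists_fd h
  obtain ⟨c1, c2, c3, c4⟩ := D.count h ps pq
  obtain ⟨φ, a, R, hk, hp⟩ := D.exists_root h c1 c2
  obtain ⟨g, hg, hc, hd⟩ := D.exists_opp h R hk hp
  obtain ⟨l, e, k1, k2, k3, k4, k5⟩ := D.exists_sl h pq c3 ps c4 R hg hc hd
  refine ⟨K, iK, iF, l, e, Sm h n m0, Y1, c2, D.char2 h, k1, k2, Sm_le h n, fun g hg v hv => Sm_inv h n hg hv, k3,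
    k4, k5, n.le, ?_⟩
  rintro _ ⟨u, hu, rfl⟩ h0 g hg
  exact n.ce_of h hm0 hu h0 g hg m0

end Cfsg.Agent.Omega.FOne.ThmA
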