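import Cfsg.Agent.Omega.FOne.ThmA.Red
import Cfsg.Agent.Omega.FOne.Glue.Main

/-!
# (F1'), `ToFs` from (ML) and THEOREM A
-/

set_option autoImplicit false
set_option linter.unusedSectionVars false

namespace Cfsg.Agent.Omega.FOne.ThmA

open Subgroup Cfsg Cfsg.Agent.ZN
open Cfsg.Agent.Omega.FOne.NOv

universe u

theorem fsLa_of {W : Type u} [AddCommGroup W] [Module (ZMod 2) W] {X T : Subgroup (W ≃ₗ[ZMod 2] W)} {y θ : W}
    (st : St X y θ T) (la : LA X y θ T) : Glue.FsLa X y θ T := by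
  intro Z hZ B₁ hB sq quad atom four R hT hR hRX
  have h1 : Z = Fq X y {θ} := by
    ext x
    rw [hZ, mem_Fq]
    constructor
    · rintro ⟨h1, h2⟩
      exact ⟨h1, st.base.fix x h1, by rintro v rfl; exact h2⟩
    · rintro ⟨h1, -, h2⟩
      exact ⟨h1, h2 θ rfl⟩
  rw [h1] at hB
  exact (la B₁ ⟨hB, sq, quad, atom, four⟩ R hT hR hRX).1

/-- **`ToFs`** from (ML) and THEOREM A -/
theorem toFs_of (hML : ML.Final.MLK.{u, u}) (hA : ThA.{u}) : Glue.ToFs.{u} := by
  intro W _ _ _ H y T N A B L s a hBA hB h2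
  obtain ⟨θ, st, g⟩ := start s a hBA hB h2
  obtain ⟨W', i1, i2, i3, X', y', θ', T', B', st', g', la⟩ := exists_min hML hA _ W H y θ T B rfl st g
  exact ⟨W', i1, i2, i3, X', y', θ', T', B', fs_of st' g' la, fsLa_of st' la⟩

end Cfsg.Agent.Omega.FOne.ThmA
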